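import Cfsg.Agent.Lib.AllAbelian80.Ree.Torus

/-!
# Ree order with abelian Sylow 3-subgroups: the normaliser of a Sylow 3-subgroup

`N = N(P)` has order `q³(q-1)` and `G` is doubly transitive on its `q³+1` conjugates, `P` regular on all but one.

Owner: helper80.
-/

set_option autoImplicit false
set_option linter.unusedSectionVars false
set_option linter.style.haveILetI false

namespace Cfsg.Agent.Lib.AllAbelian80.Ree

open Subgroup

/-- What is used about `P`, its normaliser `N` and the odd part `M` of `N`. -/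
structure BN (G : Type*) [Group G] (q d : ℕ) (t s : G) (T P N M : Subgroup G) : Prop where
  cardP : Nat.card P = q ^ 3
  PM : P ≤ M
  TM : T ≤ M
  MN : M ≤ N
  tN : t ∈ N
  sN : s ∉ N
  cardN : Nat.card N = q ^ 3 * (2 * d)
  index : N.index = q ^ 3 + 1
  odd_iff : ∀ g ∈ N, (g ∈ M ↔ Odd (orderOf g))
  M_cases : ∀ g ∈ N, g ∈ M ∨ t * g ∈ M
  t_notin : t ∉ M
  decomp : ∀ g ∈ M, ∃ p ∈ P, ∃ a ∈ T, g = p * a
  norm : ∀ g ∈ N, ∀ x ∈ P, g * x * g⁻¹ ∈ P
  unique : ∀ g ∈ N, ∀ k : ℕ, g ^ 3 ^ k = 1 → g ∈ P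
  cover : ∀ g, g ∉ N → ∃ p ∈ P, ∃ b ∈ N, g = p * s * b
  ti : ∀ g, g ∉ N → ∀ x ∈ P, g⁻¹ * x * g ∈ P → x = 1
  semireg : ∀ a ∈ T, a ≠ 1 → ∀ x ∈ P, a * x = x * a → x = 1
  moves : ∃ x ∈ P, t * x * t⁻¹ ≠ x
  tsq : t * t = 1
  tT : ∀ a ∈ T, a * t = t * a
  T_odd : ∀ a ∈ T, a * a = 1 → a = 1

namespace Hyp

variable {G : Type*} [Group G] [Finite G] {q d : ℕ} {t s : G} {E U T : Subgroup G}
  (h : Hyp G q d t s E U T)
include h

theorem exists_BN : ∃ P N M : Subgroup G, BN G q d t s T P N M ∧ U ≤ P ∧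
    ∀ x ∈ P, x * t = t * x → x ∈ U := by
  haveI : Fact (Nat.Prime 3) := ⟨Nat.prime_three⟩
  obtain ⟨P, hP3, hcP, hUP, hPn, hfixt⟩ := h.exists_sylow
  obtain ⟨u, hu, hu1⟩ := h.exists_U_ne
  have hPodd : Odd (Nat.card P) := by
    rw [hcP]
    exact (Nat.odd_iff.2 (by have := h.q_eq; omega)).pow
  have hoddx : ∀ x ∈ P, Odd (orderOf x) := fun x hx =>
    hPodd.of_dvd_nat (Subgroup.orderOf_dvd_natCard P hx)
  have hts : ∀ x : G, s * (t * x * t⁻¹) * s⁻¹ = t * (s * x * s⁻¹) * t⁻¹ := fun x => by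
    rw [show s * (t * x * t⁻¹) * s⁻¹ = (s * t) * x * (s * t)⁻¹ by group, ← h.ts]; group
  have hss : ∀ x : G, s * (s * x * s⁻¹) * s⁻¹ = x := fun x => by
    rw [show s * (s * x * s⁻¹) * s⁻¹ = (s * s) * x * (s * s)⁻¹ by group, h.sq]; group
  have hinter : ∀ x ∈ P, s * x * s⁻¹ ∈ P → x = 1 := by
    let R : Subgroup G := P ⊓ P.comap (MulAut.conj s).toMonoidHom
    have hmem : ∀ x, x ∈ R ↔ x ∈ P ∧ s * x * s⁻¹ ∈ P := fun x => by
      simp [R, mem_inf, mem_comap]
    have htP : ∀ x ∈ P, t * x * t⁻¹ ∈ P := fun x hx =>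
      (mem_normalizer_iff.1 (hPn (mem_sup_left (mem_zpowers t))) x).1 hx
    have hR : R = ⊥ := by
      refine h.eq_bot_of_four (hP3.to_le inf_le_left) ?_ ?_ ?_
      · intro x hx
        obtain ⟨h1, h2⟩ := (hmem x).1 hx
        exact (hmem _).2 ⟨htP x h1, (hts x).symm ▸ htP _ h2⟩
      · intro x hx
        obtain ⟨h1, h2⟩ := (hmem x).1 hx
        exact (hmem _).2 ⟨h2, (hss x).symm ▸ h1⟩
      · intro x hx hxt
        obtain ⟨h1, h2⟩ := (hmem x).1 hx
        have hU := hfixt x h1 (mul_inv_eq_iff_eq_mul.1 hxt).symm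
        refine h.ti x hU (hfixt _ h2 ?_)
        exact (mul_inv_eq_iff_eq_mul.1 (by rw [← hts, hxt])).symm
    intro x h1 h2
    exact mem_bot.1 (hR ▸ (hmem x).2 ⟨h1, h2⟩)
  set N : Subgroup G := normalizer (P : Set G) with hN
  have hnorm : ∀ g ∈ N, ∀ x ∈ P, g * x * g⁻¹ ∈ P := fun g hg x hx => (mem_normalizer_iff.1 hg x).1 hx
  have hPN : P ≤ N := le_normalizer
  have hsN : s ∉ N := fun hs => hu1 (hinter u (hUP hu) (hnorm s hs u (hUP hu)))
  have huniq : ∀ g ∈ N, ∀ k : ℕ, g ^ 3 ^ k = 1 → g ∈ P := by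
    intro g hg k hk
    have hz : IsPGroup 3 ↥(zpowers g) := by
      obtain ⟨i, -, hi⟩ := (Nat.dvd_prime_pow Nat.prime_three).1 (orderOf_dvd_of_pow_eq_one hk)
      exact IsPGroup.of_card (n := i) (by rw [Nat.card_zpowers, hi])
    have hS := hz.to_sup_of_normal_right' hP3 ((zpowers_le).2 hg)
    obtain ⟨m, hm⟩ := IsPGroup.iff_card.1 hS
    obtain ⟨f, hf⟩ := h.pow3
    have h1 : 3 ^ m ∣ q ^ 3 * (2 * d * (q ^ 3 + 1)) := h.card' ▸ hm ▸ card_subgroup_dvd_card _
    have hcop : Nat.Coprime (3 ^ m) (2 * d * (q ^ 3 + 1)) := by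
      refine Nat.Coprime.pow_left m (Nat.prime_three.coprime_iff_not_dvd.2 ?_)
      exact Nat.prime_three.not_dvd_mul (Nat.prime_three.not_dvd_mul (by norm_num) h.three_not_dvd.1)
        h.three_not_dvd.2.2.1
    have heq : (P : Subgroup G) = zpowers g ⊔ P :=
      eq_of_le_of_card_ge le_sup_right (hm ▸ hcP ▸ Nat.le_of_dvd (by rw [hf]; positivity)
        (hcop.dvd_of_dvd_mul_right h1))
    exact heq ▸ mem_sup_left (mem_zpowers g)
  have hsemi : ∀ a ∈ T, a ≠ 1 → ∀ x ∈ P, a * x = x * a → x = 1 := by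
    intro a ha ha1 x hx hax
    obtain ⟨k, hk⟩ := hP3 ⟨x, hx⟩
    have hk' : x ^ 3 ^ k = 1 := congrArg Subtype.val hk
    by_contra hx1
    have : ∀ j, x ^ 3 ^ j = 1 → x = 1 := by
      intro j
      induction j with
      | zero => intro hj; simpa using hj
      | succ j ih =>
        intro hj
        refine ih (h.three_free ha ha1 (((show Commute x a from hax.symm)).pow_left _).eq ?_)
        rw [← pow_mul, ← pow_succ]; exact hj
    exact hx1 (this k hk')
  set M : Subgroup G := T ⊔ P with hM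
  have hTN : T ≤ N := le_sup_right.trans hPn
  have hdTP : Disjoint T P := disjoint_of_coprime_natCard (by
    rw [h.cardT, hcP]
    exact (h.coprime_d.coprime_dvd_right (Dvd.intro (2 * (q ^ 3 + 1)) (by ring))))
  have hcardM : Nat.card M = d * q ^ 3 := by
    rw [hM, Coprime.card_sup_of_disjoint hTN hdTP, h.cardT, hcP]
  have hModd : Odd (Nat.card M) := by
    rw [hcardM]; exact (Nat.odd_iff.2 h.d_odd).mul (hcP ▸ hPodd)
  have htN : t ∈ N := hPn (mem_sup_left (mem_zpowers t))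
  have htM : t ∉ M := fun hh => by
    have := hModd.of_dvd_nat (Subgroup.orderOf_dvd_natCard M hh)
    rw [h.ht] at this
    exact (Nat.not_even_iff_odd.2 this) even_two
  have hMN : M ≤ N := sup_le hTN hPN
  set M' : Subgroup G := zpowers t ⊔ T ⊔ P with hM'
  have hM'card : Nat.card M' = 2 * d * q ^ 3 := by
    rw [hM', Coprime.card_sup_of_disjoint hPn (disjoint_of_coprime_natCard ?_), h.card_tT, hcP]
    rw [h.card_tT, hcP]
    exact Nat.Coprime.mul_left (Nat.coprime_two_left.2 (hcP ▸ hPodd))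
      (h.coprime_d.coprime_dvd_right (Dvd.intro (2 * (q ^ 3 + 1)) (by ring)))
  have hM'N : M' ≤ N := sup_le hPn hPN
  have hNge : 2 * d * q ^ 3 ≤ Nat.card N :=
    hM'card ▸ Nat.le_of_dvd Nat.card_pos (card_dvd_of_le hM'N)
  let f : Option P → G ⧸ N := fun o => o.elim ((1 : G) : G ⧸ N) fun p => (((p : G) * s : G) : G ⧸ N)
  have hf : Function.Injective f := by
    have hne : ∀ p : P, (((p : G) * s : G) : G ⧸ N) ≠ ((1 : G) : G ⧸ N) := fun p hp => by
      rw [QuotientGroup.eq, mul_one] at hp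
      exact hsN ((mul_mem_cancel_left (hPN p.2)).1 (inv_mem_iff.1 hp))
    rintro (_ | p) (_ | p') hpp
    · rfl
    · exact absurd hpp.symm (hne p')
    · exact absurd hpp (hne p)
    · change (((p : G) * s : G) : G ⧸ N) = (((p' : G) * s : G) : G ⧸ N) at hpp
      rw [QuotientGroup.eq, mul_inv_rev] at hpp
      have hx : (p : G)⁻¹ * p' ∈ P := mul_mem (inv_mem p.2) p'.2
      have hsx : s * ((p : G)⁻¹ * p') * s⁻¹ ∈ N := by
        rw [inv_eq_of_mul_eq_one_right h.sq] at hpp ⊢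
        simpa [mul_assoc] using hpp
      obtain ⟨k, hk⟩ := hP3 ⟨_, hx⟩
      have hk' : ((p : G)⁻¹ * p') ^ 3 ^ k = 1 := congrArg Subtype.val hk
      have := hinter _ hx (huniq _ hsx k (by rw [conj_pow, hk', mul_one, mul_inv_cancel]))
      exact congrArg some (Subtype.ext (inv_mul_eq_one.1 this))
  have hidx : q ^ 3 + 1 ≤ N.index := by
    have h1 := Nat.card_le_card_of_injective f hf
    rw [Finite.card_option, hcP] at h1
    exact h1
  have hprod : Nat.card N * N.index = (2 * d * q ^ 3) * (q ^ 3 + 1) := by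
    rw [card_mul_index, h.card']; ring
  have hpos : 0 < 2 * d * q ^ 3 := by
    have := h.d_big; have := h.q_pos; positivity
  have hNc : Nat.card N = 2 * d * q ^ 3 := by
    refine le_antisymm ?_ hNge
    by_contra hlt
    push Not at hlt
    have : (2 * d * q ^ 3) * (q ^ 3 + 1) < Nat.card N * N.index :=
      Nat.mul_lt_mul_of_lt_of_le hlt hidx (by omega)
    omega
  have hidx' : N.index = q ^ 3 + 1 := by
    rw [hNc] at hprod
    exact Nat.eq_of_mul_eq_mul_left hpos hprod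
  have hM'eq : M' = N := eq_of_le_of_card_ge hM'N (by rw [hM'card, hNc])
  have hsurj : Function.Surjective f := by
    refine ((Nat.bijective_iff_injective_and_card f).2 ⟨hf, ?_⟩).2
    rw [Finite.card_option, hcP]
    exact hidx'.symm
  have hMcases : ∀ g ∈ N, g ∈ M ∨ t * g ∈ M := by
    intro g hg
    rw [← hM'eq] at hg
    obtain ⟨a, ha, p, hp, rfl⟩ := Coprime.exists_mul_of_mem_sup hPn hg
    rcases h.mem_tT ha with ha' | ha'
    · exact Or.inl (mul_mem (mem_sup_left ha') (mem_sup_right hp))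
    · exact Or.inr (by rw [← mul_assoc]; exact mul_mem (mem_sup_left ha') (mem_sup_right hp))
  have hcover : ∀ g, g ∉ N → ∃ p ∈ P, ∃ b ∈ N, g = p * s * b := by
    intro g hg
    obtain ⟨o, ho⟩ := hsurj (g : G ⧸ N)
    rcases o with _ | p
    · exfalso
      change ((1 : G) : G ⧸ N) = (g : G ⧸ N) at ho
      rw [QuotientGroup.eq, inv_one, one_mul] at ho
      exact hg ho
    · change (((p : G) * s : G) : G ⧸ N) = (g : G ⧸ N) at ho
      rw [QuotientGroup.eq] at ho
      exact ⟨p, p.2, _, ho, by group⟩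
  refine ⟨P, N, M, ⟨?_, hUP, hfixt⟩⟩
  refine
    { cardP := hcP, PM := le_sup_right, TM := le_sup_left, MN := hMN, tN := htN,
      sN := hsN, cardN := by rw [hNc]; ring, index := hidx', M_cases := hMcases, t_notin := htM,
      tsq := h.tt, tT := fun a ha => h.comm a (h.TE ha)
      T_odd := fun a ha h2 => by_contra fun h1 => h.T_inv_ne ha h1 (inv_eq_of_mul_eq_one_right h2)
      norm := hnorm, unique := huniq, cover := hcover, semireg := hsemi,
      odd_iff := ?_, decomp := ?_, ti := ?_, moves := ?_ }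
  · intro g hg
    refine ⟨fun hgM => hModd.of_dvd_nat (Subgroup.orderOf_dvd_natCard M hgM), fun ho => ?_⟩
    rcases hMcases g hg with hgM | hgM
    · exact hgM
    exfalso
    -- `g = t m`, and `m' = t m t ∈ M`, so `g ^ 2 ∈ M`, hence `g ∈ M`
    have hMn : ∀ x ∈ M, t * x * t⁻¹ ∈ M := by
      intro x hx
      obtain ⟨a, ha, p, hp, rfl⟩ := Coprime.exists_mul_of_mem_sup hTN hx
      rw [show t * (a * p) * t⁻¹ = (t * a * t⁻¹) * (t * p * t⁻¹) by group,
        show t * a * t⁻¹ = a by rw [← h.comm a (h.TE ha), mul_inv_cancel_right]]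
      exact mul_mem (mem_sup_left ha) (mem_sup_right (hnorm t htN p hp))
    have hg2 : g ^ 2 ∈ M := by
      rw [show g ^ 2 = (t⁻¹ * (t * g) * t) * (t⁻¹ * t⁻¹) * (t * g) by rw [pow_two]; group, h.t_inv, h.tt, mul_one]
      refine mul_mem ?_ hgM
      have := hMn _ hgM
      rwa [h.t_inv] at this
    obtain ⟨k, hk⟩ := ho
    have hgM' : g ∈ M := by
      have he : g = (g ^ 2) ^ (k + 1) := by
        rw [← pow_mul, show 2 * (k + 1) = (2 * k + 1) + 1 by ring, pow_succ, ← hk, pow_orderOf_eq_one,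
          one_mul]
      rw [he]; exact pow_mem hg2 _
    exact htM ((M.mul_mem_cancel_right hgM').1 hgM)
  · intro g hg
    obtain ⟨a, ha, p, hp, rfl⟩ := Coprime.exists_mul_of_mem_sup hTN hg
    exact ⟨a * p * a⁻¹, hnorm a (hTN ha) p hp, a, ha, by group⟩
  · intro g hg x hx hxg
    obtain ⟨p, hp, b, hb, rfl⟩ := hcover g hg
    have h1 : p⁻¹ * x * p ∈ P := mul_mem (mul_mem (inv_mem hp) hx) hp
    rw [show (p * s * b)⁻¹ * x * (p * s * b) = b⁻¹ * (s⁻¹ * (p⁻¹ * x * p) * s) * b by group] at hxg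
    have h2 := hnorm b hb _ hxg
    rw [show b * (b⁻¹ * (s⁻¹ * (p⁻¹ * x * p) * s) * b) * b⁻¹ = s⁻¹ * (p⁻¹ * x * p) * s by group,
      inv_eq_of_mul_eq_one_right h.sq] at h2
    have h3 := hinter _ h1 (by rwa [inv_eq_of_mul_eq_one_right h.sq])
    calc x = p * (p⁻¹ * x * p) * p⁻¹ := by group
      _ = 1 := by rw [h3]; group
  · by_contra hall
    push Not at hall
    have hle : P ≤ U := fun x hx => hfixt x hx (mul_inv_eq_iff_eq_mul.1 (hall x hx)).symm
    have h1 : q ^ 3 ≤ q ^ 1 := by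
      have := Nat.le_of_dvd Nat.card_pos (card_dvd_of_le hle)
      rwa [hcP, h.cardU, ← pow_one q, ← pow_mul, one_mul] at this
    have := h.q_eq; have := h.d_big
    have := (Nat.pow_le_pow_iff_right (by omega : 1 < q)).1 h1
    omega

end Hyp

end Cfsg.Agent.Lib.AllAbelian80.Ree
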