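import Cfsg.Agent.Lib.AllAbelian80.Ree.Sign

/-!
# A simple group of Ree order with `C(t) = ⟨t⟩ × PSL(2,q)` has non-abelian Sylow 3-subgroups

Owner: helper80.
-/

set_option autoImplicit false
set_option linter.unusedSectionVars false
set_option linter.style.haveILetI false

namespace Cfsg.Agent.Lib.AllAbelian80.Ree

open Subgroup Cfsg.Agent.Lib.Characters.Basic Cfsg.Agent.Lib.Characters.Linear
open scoped ComplexConjugate

variable {G : Type*} [Group G]

/-- A commutative subgroup carries an irreducible character whose coefficients avoid it: the values on `v` agree with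
the degree if every linear constituent is trivial on `v`. -/
theorem apply_eq_of_linear {H : Type*} [Group H] [Fintype H] (hcomm : ∀ a c : H, a * c = c * a)
    {f : H → ℂ} (hf : Cfsg.IsClassFunction H f) {v : H}
    (h : ∀ φ : H →* ℂˣ, φ v ≠ 1 → Cfsg.classInner f (fun x => ((φ x : ℂˣ) : ℂ)) = 0) : f v = f 1 := by
  classical
  haveI := Fintype.ofFinite (Cfsg.IrrCharacter H)
  rw [Cfsg.Agent.Lib.Characters.Complete.classFunction_eq_sum hf]
  simp only [Finset.sum_apply, Pi.smul_apply, smul_eq_mul]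
  refine Finset.sum_congr rfl fun χ _ => ?_
  have h1 := degree_eq_one_of_comm hcomm χ
  by_cases hv : degOneHom (isCharacter_irr χ) h1 v = 1
  · rw [h1, ← degOneHom_apply (isCharacter_irr χ) h1 v, hv, Units.val_one]
  · have := h _ hv
    rw [show (fun x => ((degOneHom (isCharacter_irr χ) h1 x : ℂˣ) : ℂ)) = (χ : H → ℂ) from rfl] at this
    rw [this, zero_mul, zero_mul]

namespace BN

variable [Fintype G] {q d : ℕ} {t s : G} {T P N M : Subgroup G} (b : BN G q d t s T P N M)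
include b

open scoped Classical in
theorem card_eqv_le [Fintype (P →* ℂˣ)] (hT : Nat.card T = d) (ψ : P →* ℂˣ) :
    (Finset.univ.filter fun φ => Eqv b φ ψ).card ≤ 2 * d := by
  let f : Bool × T → (P →* ℂˣ) := fun i => pull b
    (if i.1 then (⟨i.2, b.MN (b.TM i.2.2)⟩ : N) else ⟨i.2, b.MN (b.TM i.2.2)⟩ * 1)
    (if i.1 then ψ else pull b ⟨t, b.tN⟩ ψ)
  refine le_trans (Finset.card_le_card (t := Finset.univ.image f) ?_) (Finset.card_image_le.trans ?_)
  · intro φ hφ
    obtain ⟨g, rfl⟩ := (Finset.mem_filter.1 hφ).2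
    refine Finset.mem_image.2 ?_
    rcases b.M_cases g g.2 with hg | hg
    · obtain ⟨p, hp, a, ha, he⟩ := b.decomp _ hg
      refine ⟨(true, ⟨a, ha⟩), Finset.mem_univ _, ?_⟩
      rw [show g = (⟨p, b.PN hp⟩ : N) * ⟨a, b.MN (b.TM ha)⟩ from Subtype.ext he, b.pull_mul,
        b.pull_P ⟨p, b.PN hp⟩ hp]
      simp only [f, if_true]
    · obtain ⟨p, hp, a, ha, he⟩ := b.decomp _ hg
      refine ⟨(false, ⟨a, ha⟩), Finset.mem_univ _, ?_⟩
      rw [show g = (⟨t, b.tN⟩ : N) * ((⟨p, b.PN hp⟩ : N) * ⟨a, b.MN (b.TM ha)⟩) from Subtype.ext (by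
          simp only [Subgroup.coe_mul, ← he]; rw [← mul_assoc, b.tsq, one_mul]),
        b.pull_mul, b.pull_mul, b.pull_P ⟨p, b.PN hp⟩ hp]
      simp only [f, Bool.false_eq_true, if_false, mul_one]
  · rw [Finset.card_univ, Fintype.card_prod, Fintype.card_bool, ← Nat.card_eq_fintype_card, hT]

/-- The contradiction. -/
theorem absurd_of_simple [IsSimpleGroup G] (hc : ∀ x ∈ P, ∀ y ∈ P, x * y = y * x) (h3 : ∃ f, q = 3 ^ f) (hT : Nat.card T = d)
    (hq : q = 2 * d + 1) (hd : 2 ≤ d) : False := by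
  classical
  haveI := Fintype.ofFinite (Cfsg.IrrCharacter G)
  letI : CommGroup P := { (inferInstance : Group P) with
    mul_comm := fun x y => Subtype.ext (hc _ x.2 _ y.2) }
  haveI : Finite (P →* ℂˣ) := Nat.finite_of_card_ne_zero (by
    rw [CommGroup.card_monoidHom_of_hasEnoughRootsOfUnity]; exact Nat.card_pos.ne')
  haveI := Fintype.ofFinite (P →* ℂˣ)
  obtain ⟨x, hxP, hxt⟩ := b.moves
  set tt : N := ⟨t, b.tN⟩
  set v : P := (⟨x, hxP⟩ : P)⁻¹ * ⟨t * x * t⁻¹, b.norm t b.tN x hxP⟩ with hv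
  have hv1 : v ≠ 1 := fun h => hxt (congrArg Subtype.val (inv_mul_eq_one.1 h)).symm
  -- half of the characters are moved
  let Fix : Subgroup (P →* ℂˣ) :=
    { carrier := {ψ | pull b tt ψ = ψ}
      one_mem' := by ext y; simp [pull_apply]
      mul_mem' := fun {φ ψ} hφ hψ => by
        show pull b tt (φ * ψ) = φ * ψ
        conv_rhs => rw [← hφ, ← hψ]
        rfl
      inv_mem' := fun {φ} hφ => by
        show pull b tt φ⁻¹ = φ⁻¹
        conv_rhs => rw [← hφ]
        rfl }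
  have hFix : Fix ≠ ⊤ := by
    intro htop
    obtain ⟨φ, hφ⟩ := CommGroup.exists_apply_ne_one_of_hasEnoughRootsOfUnity P ℂ hv1
    refine hφ ?_
    have hh : pull b tt φ = φ := htop.ge (mem_top φ)
    have := congrArg (fun χ : P →* ℂˣ => χ ⟨x, hxP⟩) hh
    simp only [pull_apply] at this
    rw [hv, map_mul, map_inv]
    exact inv_mul_eq_one.2 this.symm
  set S := Finset.univ.filter fun ψ : P →* ℂˣ => Moved b ψ with hS
  have hScard : 4 * d < S.card := by
    have h1 : 2 * Nat.card Fix ≤ Nat.card (P →* ℂˣ) := by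
      rw [← Fix.card_mul_index, mul_comm]
      refine Nat.mul_le_mul_left _ ?_
      have := Fix.index_ne_zero_of_finite
      have : Fix.index ≠ 1 := fun h => hFix (index_eq_one.1 h)
      omega
    have h2 : Nat.card Fix + S.card = Nat.card (P →* ℂˣ) := by
      have hf := Finset.card_filter_add_card_filter_not (s := (Finset.univ : Finset (P →* ℂˣ)))
        (fun ψ => Moved b ψ)
      rw [Finset.card_univ] at hf
      rw [Nat.card_eq_fintype_card (α := P →* ℂˣ), ← hf, ← hS, Nat.card_eq_fintype_card, add_comm,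
        Fintype.card_subtype]
      refine congrArg (S.card + ·) (congrArg Finset.card (Finset.filter_congr fun ψ _ => ?_))
      exact Decidable.not_not.symm
    rw [CommGroup.card_monoidHom_of_hasEnoughRootsOfUnity, b.cardP] at h1 h2
    have h8 : 8 * d < q ^ 3 := by
      rw [hq]
      nlinarith [Nat.mul_le_mul hd hd, Nat.zero_le (d * d * d)]
    omega
  -- coefficients
  have hn : ∀ (ψ : P →* ℂˣ) (χ : Cfsg.IrrCharacter G), ∃ k : ℕ,
      Cfsg.classInner (Cfsg.indFun P fun y => ((ψ y : ℂˣ) : ℂ)) χ = k := fun ψ χ => by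
    rw [Induced.Basic.frobenius_reciprocity _ _ (isClassFunction_irr χ)]
    exact exists_classInner_nat (isCharacter_irr (linChar ψ))
      (isCharacter_comp P.subtype (isCharacter_irr χ))
  choose n hn using hn
  have hm : ∀ χ : Cfsg.IrrCharacter G, ∃ k : ℕ, Cfsg.classInner b.lam χ = k := fun χ => by
    rw [lam, Induced.Basic.frobenius_reciprocity _ _ (isClassFunction_irr χ)]
    exact exists_classInner_nat (isCharacter_irr (linChar b.sgn))
      (isCharacter_comp N.subtype (isCharacter_irr χ))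
  choose m hm using hm
  have hmm : ∑ χ, m χ * m χ = 2 := by
    have h := classInner_eq_sum (f := b.lam) (Induced.Basic.isClassFunction_indFun _ _) b.lam
    rw [b.inner_lam_self] at h
    simp only [hm, map_natCast] at h
    exact_mod_cast h.symm
  have hmn : ∀ ψ ∈ S, ∑ χ, n ψ χ * m χ = 1 := fun ψ hψ => by
    have h := classInner_eq_sum (f := Cfsg.indFun P fun y => ((ψ y : ℂˣ) : ℂ))
      (Induced.Basic.isClassFunction_indFun _ _) b.lam
    rw [b.inner_ind_lam h3 (b.moved_ne_one (Finset.mem_filter.1 hψ).2)] at h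
    simp only [hn, hm, map_natCast] at h
    exact_mod_cast h.symm
  have hnn : ∀ ψ ∈ S, ∀ ψ' ∈ S,
      ((∑ χ, n ψ χ * n ψ' χ : ℕ) : ℂ) = (if Eqv b ψ ψ' then 1 else 0) + b.const := fun ψ hψ ψ' hψ' => by
    rw [← b.inner_ind (Finset.mem_filter.1 hψ').2,
      classInner_eq_sum (Induced.Basic.isClassFunction_indFun _ _)]
    simp only [hn, map_natCast, Nat.cast_sum, Nat.cast_mul]
  have hrefl : ∀ ψ, Eqv b ψ ψ := fun ψ => ⟨1, b.pull_P 1 P.one_mem ψ⟩
  have hsq : ∀ ψ ∈ S, ∀ ψ' ∈ S, ¬ Eqv b ψ ψ' →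
      ∑ χ, ((n ψ χ : ℤ) - n ψ' χ) ^ 2 = 2 := fun ψ hψ ψ' hψ' hne => by
    have h1 := hnn ψ hψ ψ hψ
    have h2 := hnn ψ' hψ' ψ' hψ'
    have h3 := hnn ψ hψ ψ' hψ'
    rw [if_pos (hrefl _)] at h1 h2
    rw [if_neg hne] at h3
    have key : ((∑ χ, ((n ψ χ : ℤ) - n ψ' χ) ^ 2 : ℤ) : ℂ) = 2 := by
      have e : ∑ χ, ((n ψ χ : ℤ) - n ψ' χ) ^ 2 = ((∑ χ, n ψ χ * n ψ χ : ℕ) : ℤ) +
          ((∑ χ, n ψ' χ * n ψ' χ : ℕ) : ℤ) - 2 * ((∑ χ, n ψ χ * n ψ' χ : ℕ) : ℤ) := by
        push_cast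
        rw [Finset.mul_sum, ← Finset.sum_add_distrib, ← Finset.sum_sub_distrib]
        exact Finset.sum_congr rfl fun χ _ => by ring
      rw [e, Int.cast_sub, Int.cast_add, Int.cast_mul, Int.cast_natCast, Int.cast_natCast,
        Int.cast_natCast, h1, h2, h3]
      norm_num
      ring
    exact_mod_cast key
  -- the constituents of `Λ`
  have hm01 : ∀ χ, m χ = 0 ∨ m χ = 1 := fun χ => by
    have h : m χ * m χ ≤ 2 := hmm ▸ Finset.single_le_sum (f := fun χ => m χ * m χ)
      (fun _ _ => Nat.zero_le _) (Finset.mem_univ χ)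
    have : m χ < 2 := by nlinarith
    omega
  obtain ⟨χ₁, χ₂, hne, hsupp⟩ : ∃ χ₁ χ₂, χ₁ ≠ χ₂ ∧ (Finset.univ.filter fun χ => m χ = 1) = {χ₁, χ₂} := by
    refine Finset.card_eq_two.1 ?_
    rw [Finset.card_filter]
    refine Eq.trans (Finset.sum_congr rfl fun χ _ => ?_) hmm
    rcases hm01 χ with h | h <;> simp [h]
  have hm1 : ∀ χ, χ = χ₁ ∨ χ = χ₂ → m χ = 1 := fun χ hχ =>
    (Finset.mem_filter.1 (show χ ∈ Finset.univ.filter fun χ => m χ = 1 by rw [hsupp]; simpa using hχ)).2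
  have hpair : ∀ ψ ∈ S, n ψ χ₁ + n ψ χ₂ = 1 := by
    intro ψ hψ
    rw [← hmn ψ hψ, ← Finset.sum_subset (Finset.subset_univ {χ₁, χ₂}) ?_, Finset.sum_pair hne,
      hm1 _ (Or.inl rfl), hm1 _ (Or.inr rfl), mul_one, mul_one]
    intro χ _ hχ
    rw [← hsupp] at hχ
    rcases hm01 χ with h | h
    · rw [h, mul_zero]
    · exact absurd ((Finset.mem_filter (p := fun χ => m χ = 1)).2 ⟨Finset.mem_univ χ, h⟩) hχ
  -- two inequivalent characters on one side force the other side to be empty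
  have hside : ∀ χa χb : Cfsg.IrrCharacter G, χa ≠ χb → (∀ ψ ∈ S, n ψ χa + n ψ χb = 1) →
      ∀ ψ ∈ S, ∀ ψ' ∈ S, ∀ φ ∈ S, n ψ χa = 1 → n ψ' χa = 1 → ¬ Eqv b ψ ψ' → n φ χa = 1 := by
    intro χa χb hab hp ψ hψ ψ' hψ' φ hφ ha ha' hne'
    by_contra hφa
    have hφ0 : n φ χa = 0 := by have := hp φ hφ; omega
    have hφb : n φ χb = 1 := by have := hp φ hφ; omega
    have key : ∀ ξ ∈ S, n ξ χa = 1 → ∀ χ, χ ≠ χa → χ ≠ χb → n ξ χ = n φ χ := by
      intro ξ hξ hξa χ h1 h2
      have hξb : n ξ χb = 0 := by have := hp ξ hξ; omega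
      have hnE : ¬ Eqv b ξ φ := by
        intro hE
        have e1 := hnn ξ hξ φ hφ
        have e2 := hnn ξ hξ ξ hξ
        have e3 := hnn φ hφ φ hφ
        rw [if_pos hE] at e1
        rw [if_pos (hrefl _)] at e2 e3
        have : ∑ χ, ((n ξ χ : ℤ) - n φ χ) ^ 2 = 0 := by
          have ee1 : (∑ χ, n ξ χ * n ξ χ) = ∑ χ, n ξ χ * n φ χ := Nat.cast_injective (e2.trans e1.symm)
          have ee2 : (∑ χ, n φ χ * n φ χ) = ∑ χ, n ξ χ * n φ χ := Nat.cast_injective (e3.trans e1.symm)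
          rw [show (∑ χ, ((n ξ χ : ℤ) - n φ χ) ^ 2) = ((∑ χ, n ξ χ * n ξ χ : ℕ) : ℤ) +
            ((∑ χ, n φ χ * n φ χ : ℕ) : ℤ) - 2 * ((∑ χ, n ξ χ * n φ χ : ℕ) : ℤ) by
            push_cast
            rw [Finset.mul_sum, ← Finset.sum_add_distrib, ← Finset.sum_sub_distrib]
            exact Finset.sum_congr rfl fun χ _ => by ring, ee1, ee2]
          ring
        have := (Finset.sum_eq_zero_iff_of_nonneg (fun χ _ => sq_nonneg _)).1 this χa (Finset.mem_univ _)
        rw [hξa, hφ0] at this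
        norm_num at this
      have h := hsq ξ hξ φ hφ hnE
      rw [← Finset.add_sum_erase _ _ (Finset.mem_univ χa),
        ← Finset.add_sum_erase _ _ (Finset.mem_erase.2 ⟨hab.symm, Finset.mem_univ χb⟩)] at h
      rw [hξa, hφ0, hξb, hφb] at h
      norm_num at h
      have h0 := (Finset.sum_eq_zero_iff_of_nonneg (fun χ _ => sq_nonneg _)).1
        (show ∑ x ∈ (Finset.univ.erase χa).erase χb, ((n ξ x : ℤ) - n φ x) ^ 2 = 0 by linarith) χ
        (Finset.mem_erase.2 ⟨h2, Finset.mem_erase.2 ⟨h1, Finset.mem_univ _⟩⟩)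
      have := pow_eq_zero_iff (n := 2) two_ne_zero |>.1 h0
      omega
    have h := hsq ψ hψ ψ' hψ' hne'
    rw [Finset.sum_eq_zero fun χ _ => ?_] at h
    · norm_num at h
    · by_cases h1 : χ = χa
      · rw [h1, ha, ha']; norm_num
      by_cases h2 : χ = χb
      · have e1 : n ψ χb = 0 := by have := hp ψ hψ; omega
        have e2 : n ψ' χb = 0 := by have := hp ψ' hψ'; omega
        rw [h2, e1, e2]; norm_num
      rw [key ψ hψ ha χ h1 h2, key ψ' hψ' ha' χ h1 h2, sub_self]; norm_num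
  have hzero : ∃ χ, m χ = 1 ∧ ∀ ψ ∈ S, n ψ χ = 0 := by
    by_contra hcon
    push Not at hcon
    obtain ⟨ψ₁, hψ₁, h₁⟩ := hcon χ₁ (hm1 _ (Or.inl rfl))
    obtain ⟨ψ₂, hψ₂, h₂⟩ := hcon χ₂ (hm1 _ (Or.inr rfl))
    have a₁ : n ψ₁ χ₁ = 1 := by have := hpair ψ₁ hψ₁; omega
    have a₂ : n ψ₂ χ₂ = 1 := by have := hpair ψ₂ hψ₂; omega
    have hbound : S ⊆ (Finset.univ.filter fun φ => Eqv b φ ψ₁) ∪ (Finset.univ.filter fun φ => Eqv b φ ψ₂) := by
      intro φ hφ
      by_contra hcon'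
      simp only [Finset.mem_union, Finset.mem_filter, Finset.mem_univ, true_and, not_or] at hcon'
      rcases Nat.eq_zero_or_pos (n φ χ₁) with h0 | h0
      · have hφ2 : n φ χ₂ = 1 := by have := hpair φ hφ; omega
        have := hside χ₂ χ₁ hne.symm (fun ψ hψ => by have := hpair ψ hψ; omega) φ hφ ψ₂ hψ₂ ψ₁ hψ₁ hφ2 a₂ hcon'.2
        have := hpair ψ₁ hψ₁
        omega
      · have hφ1 : n φ χ₁ = 1 := by have := hpair φ hφ; omega
        have := hside χ₁ χ₂ hne hpair φ hφ ψ₁ hψ₁ ψ₂ hψ₂ hφ1 a₁ hcon'.1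
        have := hpair ψ₂ hψ₂
        omega
    have := (Finset.card_le_card hbound).trans (Finset.card_union_le _ _)
    have := b.card_eqv_le hT ψ₁
    have := b.card_eqv_le hT ψ₂
    omega
  obtain ⟨χ, hχ1, hχ0⟩ := hzero
  have hcl : Cfsg.IsClassFunction P (fun y : P => (χ : G → ℂ) y) :=
    isClassFunction_of_isCharacter (isCharacter_comp P.subtype (isCharacter_irr χ))
  have hval := apply_eq_of_linear (f := fun y : P => (χ : G → ℂ) y) (v := v)
    (fun a c => mul_comm a c) hcl (fun φ hφ => by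
      have hmov : Moved b φ := by
        intro hfix
        refine hφ ?_
        have := congrArg (fun ξ : P →* ℂˣ => ξ ⟨x, hxP⟩) hfix
        simp only [pull_apply] at this
        rw [hv, map_mul, map_inv]
        exact inv_mul_eq_one.2 this.symm
      have := hn φ χ
      rw [Induced.Basic.frobenius_reciprocity _ _ (isClassFunction_irr χ),
        hχ0 φ (Finset.mem_filter.2 ⟨Finset.mem_univ _, hmov⟩), Nat.cast_zero] at this
      rw [← Induced.Basic.classInner_conj_symm, this, map_zero])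
  have hnonconst : ∃ g : G, (χ : G → ℂ) g ≠ (χ : G → ℂ) 1 := by
    by_contra hcon
    push Not at hcon
    have h1 : Cfsg.classInner (χ : G → ℂ) (oneChar G) ≠ 0 := by
      rw [Cfsg.classInner]
      simp only [oneChar_apply, map_one, mul_one, hcon, Finset.sum_const, Finset.card_univ, nsmul_eq_mul,
        ← Nat.card_eq_fintype_card]
      exact mul_ne_zero (inv_ne_zero Induced.Basic.natCard_ne_zero)
        (mul_ne_zero Induced.Basic.natCard_ne_zero (apply_one_ne_zero χ))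
    have he : χ = oneChar G := by_contra fun h => h1 (classInner_irr_of_ne h)
    have := hm χ
    rw [lam, Induced.Basic.frobenius_reciprocity _ _ (isClassFunction_irr χ), hχ1, he, Cfsg.classInner] at this
    simp only [oneChar_apply, map_one, mul_one, sum_hom b.sgn_ne_one, mul_zero, Nat.cast_one] at this
    exact zero_ne_one this
  obtain ⟨g, hg⟩ := hnonconst
  have hker := Cfsg.Agent.Lib.Characters.Kernel.charKer_eq_bot_of_simple (isCharacter_irr χ) hg
  have hmem : (v : G) ∈ Cfsg.Agent.Lib.Characters.Kernel.charKer (isCharacter_irr χ) :=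
    (Cfsg.Agent.Lib.Characters.Kernel.mem_charKer _ _).2 (by simpa using hval)
  rw [hker, mem_bot] at hmem
  exact hv1 (Subtype.ext hmem)

end BN

/-- **The theorem.** -/
theorem Hyp.absurd_of_simple [Finite G] [IsSimpleGroup G] {q d : ℕ} {t s : G} {E U T : Subgroup G}
    (h : Hyp G q d t s E U T) (h3 : ∀ Q : Sylow 3 G, IsMulCommutative (Q : Subgroup G)) : False := by
  haveI : Fact (Nat.Prime 3) := ⟨Nat.prime_three⟩
  haveI := Fintype.ofFinite G
  obtain ⟨P, N, M, b, -⟩ := h.exists_BN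
  obtain ⟨f, hf⟩ := h.pow3
  obtain ⟨Q, hQ⟩ := (IsPGroup.of_card (p := 3) (n := f * 3)
    (by rw [b.cardP, hf, pow_mul]) : IsPGroup 3 P).exists_le_sylow
  haveI := h3 Q
  exact b.absurd_of_simple (fun x hx y hy => setLike_mul_comm (hQ hx) (hQ hy))
    h.pow3 h.cardT h.q_eq h.d_big

end Cfsg.Agent.Lib.AllAbelian80.Ree
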