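import Cfsg.Agent.Lib.AllAbelian80.Ree.Normalizer
import Cfsg.Agent.Lib.Induced.Basic
import Cfsg.Agent.Lib.Characters.Complete
import Cfsg.Agent.Lib.Characters.Kernel
import Cfsg.Agent.Lib.Characters.Linear
import Mathlib.GroupTheory.FiniteAbelian.Duality
import Mathlib.Analysis.Complex.Polynomial.Basic
import Mathlib.RingTheory.RootsOfUnity.AlgebraicallyClosed

/-!
# Ree order with abelian Sylow 3-subgroups: two induced characters

`Ind` of the sign character of `N` has two constituents; one of them has only `t`-invariant linear characters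
on `P`, hence `[P,t]` in its kernel.

Owner: helper80.
-/

set_option autoImplicit false
set_option linter.unusedSectionVars false
set_option linter.style.haveILetI false

namespace Cfsg.Agent.Lib.AllAbelian80.Ree

open Subgroup Cfsg.Agent.Lib.Characters.Basic Cfsg.Agent.Lib.Characters.Linear
open scoped ComplexConjugate

variable {G : Type*} [Group G]

/-- Functions induced from linear characters. -/
theorem conj_units_apply {H : Type*} [Group H] [Finite H] (φ : H →* ℂˣ) (x : H) :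
    conj ((φ x : ℂˣ) : ℂ) = ((φ x⁻¹ : ℂˣ) : ℂ) := by
  have h := (Cfsg.Agent.Lib.Characters.Basic.apply_inv (isCharacter_irr (linChar φ)) x)
  rw [linChar_apply, linChar_apply] at h
  exact h.symm

/-- Orthogonality for homomorphisms into `ℂˣ`. -/
theorem sum_mul_conj {H : Type*} [Group H] [Fintype H] [DecidableEq (H →* ℂˣ)] (φ ψ : H →* ℂˣ) :
    ∑ x : H, ((φ x : ℂˣ) : ℂ) * conj ((ψ x : ℂˣ) : ℂ) = if φ = ψ then (Nat.card H : ℂ) else 0 := by
  have h := classInner_irr (linChar φ) (linChar ψ)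
  rw [Cfsg.classInner] at h
  simp only [linChar_apply] at h
  have hne : (Nat.card H : ℂ) ≠ 0 := Nat.cast_ne_zero.mpr Nat.card_pos.ne'
  rw [inv_mul_eq_iff_eq_mul₀ hne] at h
  rw [h]
  by_cases he : φ = ψ
  · simp [he]
  · rw [if_neg fun hh => he (linChar_injective hh), if_neg he, mul_zero]

theorem sum_hom {H : Type*} [Group H] [Fintype H] {φ : H →* ℂˣ} (hφ : φ ≠ 1) :
    ∑ x : H, ((φ x : ℂˣ) : ℂ) = 0 := by
  classical
  have h := sum_mul_conj φ 1
  rw [if_neg hφ] at h
  simpa using h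

namespace BN

variable [Fintype G] {q d : ℕ} {t s : G} {T P N M : Subgroup G} (b : BN G q d t s T P N M)
include b

/-- Pullback along conjugation by `g`. -/
noncomputable def pull (g : N) (ψ : P →* ℂˣ) : P →* ℂˣ :=
  ψ.comp (MonoidHom.mk' (fun x : P => (⟨(g : G) * x * (g : G)⁻¹, b.norm g g.2 x x.2⟩ : P))
    fun x y => Subtype.ext (by simp only [coe_mul]; group))

theorem pull_apply (g : N) (ψ : P →* ℂˣ) (x : P) :
    pull b g ψ x = ψ ⟨(g : G) * x * (g : G)⁻¹, b.norm g g.2 x x.2⟩ := rfl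

theorem pull_mul (g g' : N) (ψ : P →* ℂˣ) : pull b (g * g') ψ = pull b g' (pull b g ψ) := by
  ext x
  simp only [pull_apply, coe_mul, mul_inv_rev, mul_assoc]

theorem pull_P (g : N) (hg : (g : G) ∈ P) (ψ : P →* ℂˣ) : pull b g ψ = ψ := by
  ext x
  rw [pull_apply, show (⟨(g : G) * x * (g : G)⁻¹, b.norm g g.2 x x.2⟩ : P) =
    ⟨g, hg⟩ * x * (⟨g, hg⟩ : P)⁻¹ from rfl, map_mul, map_mul, map_inv, mul_right_comm,
    mul_inv_cancel, one_mul]

/-- `ψ` is moved by `t`. -/
def Moved (ψ : P →* ℂˣ) : Prop := pull b ⟨t, b.tN⟩ ψ ≠ ψ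

theorem moved_ne_one {ψ : P →* ℂˣ} (h : Moved b ψ) : ψ ≠ 1 := fun h1 => h (by
  subst h1; ext x; simp [pull_apply])

theorem PN {x : G} (hx : x ∈ P) : x ∈ N := b.MN (b.PM hx)

theorem T_fix {a : G} (ha : a ∈ T) {ψ : P →* ℂˣ} (hψ : Moved b ψ)
    (hfix : pull b ⟨a, b.MN (b.TM ha)⟩ ψ = ψ) : a = 1 := by
  by_contra ha1
  apply b.moved_ne_one hψ
  let f : P → P := fun x => x⁻¹ * ⟨a * x * a⁻¹, b.norm a (b.MN (b.TM ha)) x x.2⟩
  have hf : Function.Injective f := by
    intro x y hxy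
    have h : ((x : G) * (y : G)⁻¹) ∈ P := mul_mem x.2 (inv_mem y.2)
    have h1 := congrArg Subtype.val hxy
    simp only [f, coe_mul, coe_inv] at h1
    have h2 : a * ((x : G) * (y : G)⁻¹) * a⁻¹ = (x : G) * (y : G)⁻¹ := by
      have e1 : a * (x : G) * a⁻¹ = x * ((y : G)⁻¹ * (a * y * a⁻¹)) := by rw [← h1]; group
      calc a * ((x : G) * (y : G)⁻¹) * a⁻¹ = (a * x * a⁻¹) * (a * y * a⁻¹)⁻¹ := by group
        _ = _ := by rw [e1]; group
    exact Subtype.ext (mul_inv_eq_one.1 (b.semireg a ha ha1 _ h (mul_inv_eq_iff_eq_mul.1 h2)))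
  refine MonoidHom.ext fun x => ?_
  obtain ⟨y, rfl⟩ := (Finite.injective_iff_surjective.1 hf) x
  have := congrArg (fun φ : P →* ℂˣ => φ y) hfix
  simp only [pull_apply] at this
  simp only [f, map_mul, map_inv, this, inv_mul_cancel, MonoidHom.one_apply]

/-- A moved character is fixed only by `P`. -/
theorem mem_of_fix {g : N} {ψ : P →* ℂˣ} (hψ : Moved b ψ) (hfix : pull b g ψ = ψ) : (g : G) ∈ P := by
  rcases b.M_cases g g.2 with hg | hg
  · obtain ⟨p, hp, a, ha, he⟩ := b.decomp _ hg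
    have hg' : g = (⟨p, b.PN hp⟩ : N) * ⟨a, b.MN (b.TM ha)⟩ := Subtype.ext he
    rw [hg', b.pull_mul, b.pull_P ⟨p, b.PN hp⟩ hp] at hfix
    rw [he, b.T_fix ha hψ hfix, mul_one]
    exact hp
  · exfalso
    obtain ⟨p, hp, a, ha, he⟩ := b.decomp _ hg
    set n : N := (⟨p, b.PN hp⟩ : N) * ⟨a, b.MN (b.TM ha)⟩ with hn
    have hn2 : (⟨t, b.tN⟩ : N) * g = n := Subtype.ext he
    have hA : pull b n ψ = pull b ⟨a, b.MN (b.TM ha)⟩ ψ := by rw [hn, b.pull_mul, b.pull_P ⟨p, b.PN hp⟩ hp]
    have hg' : g = (⟨t, b.tN⟩ : N) * n := by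
      rw [← hn2, ← mul_assoc, show (⟨t, b.tN⟩ : N) * ⟨t, b.tN⟩ = 1 from Subtype.ext b.tsq, one_mul]
    set τ : N := ⟨t, b.tN⟩
    set α : N := ⟨a, b.MN (b.TM ha)⟩
    have hfix' : pull b α (pull b τ ψ) = ψ := by
      have := hfix
      rw [hg', hn, b.pull_mul, b.pull_mul, b.pull_P ⟨p, b.PN hp⟩ hp] at this
      exact this
    have hcomm : τ * α = α * τ := Subtype.ext (b.tT a ha).symm
    have hfix2 : pull b (α * α) ψ = ψ := by
      have h2 : pull b α (pull b τ (pull b α (pull b τ ψ))) = ψ := by rw [hfix', hfix']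
      rw [← b.pull_mul, ← b.pull_mul, ← b.pull_mul, ← mul_assoc] at h2
      rw [show τ * α * (τ * α) = (τ * τ) * (α * α) by
        rw [mul_assoc τ α, ← mul_assoc α τ, ← hcomm, mul_assoc τ α, ← mul_assoc]] at h2
      rwa [show τ * τ = 1 from Subtype.ext b.tsq, one_mul] at h2
    have ha2 : a * a = 1 := b.T_fix (T.mul_mem ha ha) hψ hfix2
    have ha1 : a = 1 := b.T_odd a ha ha2
    subst ha1
    refine hψ ?_
    rw [b.pull_P α P.one_mem] at hfix'
    exact hfix'

/-- Two characters are equivalent when conjugate under `N`. -/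
def Eqv (ψ ψ' : P →* ℂˣ) : Prop := ∃ g : N, pull b g ψ' = ψ

open scoped Classical in
theorem card_trans {ψ ψ' : P →* ℂˣ} (hψ' : Moved b ψ') :
    (Finset.univ.filter fun g : N => pull b g ψ' = ψ).card = if Eqv b ψ ψ' then Nat.card P else 0 := by
  split_ifs with h
  · obtain ⟨g₀, rfl⟩ := h
    rw [Nat.card_eq_fintype_card, ← Finset.card_univ (α := P)]
    refine Finset.card_bij' (fun g hg => ⟨((g * g₀⁻¹ : N) : G), ?_⟩)
      (fun p _ => (⟨p, b.PN p.2⟩ : N) * g₀) (fun _ _ => Finset.mem_univ _) (fun p _ => ?_)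
      (fun g _ => ?_) (fun p _ => ?_)
    · refine b.mem_of_fix hψ' ?_
      rw [b.pull_mul, (Finset.mem_filter.1 hg).2, ← b.pull_mul, mul_inv_cancel]
      exact b.pull_P 1 P.one_mem ψ'
    · rw [Finset.mem_filter, b.pull_mul, b.pull_P ⟨(p : G), b.PN p.2⟩ p.2]
      exact ⟨Finset.mem_univ _, rfl⟩
    · exact Subtype.ext (by simp)
    · exact Subtype.ext (by simp)
  · rw [Finset.card_eq_zero, Finset.filter_eq_empty_iff]
    exact fun g _ hg => h ⟨g, hg⟩

/-- The common value of the inner products. -/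
noncomputable def const (_b : BN G q d t s T P N M) : ℂ :=
  ((Nat.card G : ℂ) - Nat.card N) / ((Nat.card P : ℂ) * Nat.card P)

open scoped Classical in
/-- Inner products of the induced linear characters. -/
theorem inner_ind {ψ ψ' : P →* ℂˣ} (hψ' : Moved b ψ') :
    Cfsg.classInner (Cfsg.indFun P fun x => ((ψ x : ℂˣ) : ℂ))
      (Cfsg.indFun P fun x => ((ψ' x : ℂˣ) : ℂ)) = (if Eqv b ψ ψ' then 1 else 0) + b.const := by
  have hne : (Nat.card P : ℂ) ≠ 0 := Nat.cast_ne_zero.mpr Nat.card_pos.ne'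
  rw [Induced.Basic.frobenius_reciprocity _ _ (Induced.Basic.isClassFunction_indFun _ _), Cfsg.classInner]
  have hsum : ∀ g : G, ∑ x : P, ((ψ x : ℂˣ) : ℂ) *
      conj (Cfsg.extendByZero P (fun y => ((ψ' y : ℂˣ) : ℂ)) (g⁻¹ * x * g)) =
      if hg : g ∈ N then (if pull b ⟨g⁻¹, inv_mem hg⟩ ψ' = ψ then (Nat.card P : ℂ) else 0) else 1 := by
    intro g
    split_ifs with hg he
    · have := sum_mul_conj ψ (pull b ⟨g⁻¹, inv_mem hg⟩ ψ')
      rw [if_pos he.symm] at this
      rw [← this]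
      refine Finset.sum_congr rfl fun x _ => ?_
      rw [Induced.Basic.extendByZero_of_mem _ _ (by
        simpa using b.norm g⁻¹ (inv_mem hg) x x.2), pull_apply]
      simp only [inv_inv]
    · have := sum_mul_conj ψ (pull b ⟨g⁻¹, inv_mem hg⟩ ψ')
      rw [if_neg fun hh => he hh.symm] at this
      rw [← this]
      refine Finset.sum_congr rfl fun x _ => ?_
      rw [Induced.Basic.extendByZero_of_mem _ _ (by
        simpa using b.norm g⁻¹ (inv_mem hg) x x.2), pull_apply]
      simp only [inv_inv]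
    · rw [Finset.sum_eq_single (1 : P) ?_ (fun h => absurd (Finset.mem_univ _) h)]
      · rw [Induced.Basic.extendByZero_of_mem _ _ (by simp)]
        simp only [OneMemClass.coe_one, mul_one, inv_mul_cancel]
        rw [show (⟨1, P.one_mem⟩ : P) = 1 from rfl, map_one, map_one]
        simp
      · intro x _ hx
        rw [Induced.Basic.extendByZero_of_not_mem, map_zero, mul_zero]
        exact fun hh => hx (Subtype.ext (b.ti g hg x x.2 hh))
  simp only [Cfsg.indFun, map_mul, map_inv₀, map_natCast, map_sum, Finset.mul_sum]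
  rw [Finset.sum_comm]
  simp only [← Finset.mul_sum, mul_left_comm _ (Nat.card P : ℂ)⁻¹]
  simp only [hsum]
  have hK : (∑ g : G, if hg : g ∈ N then (if pull b ⟨g⁻¹, inv_mem hg⟩ ψ' = ψ then (Nat.card P : ℂ) else 0)
      else 1) = (if Eqv b ψ ψ' then (Nat.card P : ℂ) else 0) * Nat.card P +
        ((Nat.card G : ℂ) - Nat.card N) := by
    rw [← Finset.sum_filter_add_sum_filter_not Finset.univ (· ∈ N)]
    congr 1
    · have hc := b.card_trans (ψ := ψ) hψ'
      have : (if Eqv b ψ ψ' then (Nat.card P : ℂ) else 0) =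
          ((Finset.univ.filter fun g : N => pull b g ψ' = ψ).card : ℂ) := by
        rw [hc]; split_ifs <;> simp
      rw [this, Finset.sum_subtype (Finset.univ.filter (· ∈ N)) (p := (· ∈ N)) (by simp)]
      rw [Finset.sum_congr rfl fun g (_ : g ∈ (Finset.univ : Finset N)) => dif_pos g.2,
        ← Equiv.sum_comp (Equiv.inv N)]
      simp only [Equiv.inv_apply, coe_inv, inv_inv, Subtype.coe_eta]
      rw [← Finset.sum_filter, Finset.sum_const, nsmul_eq_mul]
    · rw [Finset.sum_congr rfl fun g hg => dif_neg (Finset.mem_filter.1 hg).2, Finset.sum_const,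
        nsmul_eq_mul, mul_one]
      rw [eq_sub_iff_add_eq, ← Nat.cast_add]
      congr 1
      rw [Nat.card_eq_fintype_card (α := N), Fintype.card_subtype, add_comm,
        Finset.card_filter_add_card_filter_not, Finset.card_univ, Nat.card_eq_fintype_card]
  rw [hK, const]
  split_ifs <;> field_simp <;> ring

end BN

end Cfsg.Agent.Lib.AllAbelian80.Ree
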