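import Cfsg.Agent.Lib.SL2Tori.Products
import Cfsg.Agent.Lib.Linear.Order

/-!
# `PSL(2,q)`, `q = 2d + 1`, `d` odd, characteristic three: unipotent subgroup and split torus

Owner: helper80.
-/

set_option autoImplicit false
set_option linter.unusedSectionVars false

namespace Cfsg.Agent.Lib.AllAbelian80

open Cfsg.Agent.Lib.PSLTwo.Sylow Cfsg.Agent.Lib.SL2Tori.Products

/-- The facts about `PSL(2,q)` used for groups of Ree order: an abelian `U` of order `q` and exponent three, an abelian
`T` of order `d = (q-1)/2` normalising it, an element `s` inverting `T`, the centralisers of their elements, and the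
fact that no element of `U` is inverted. -/
structure Model (E : Type*) [Group E] (U T : Subgroup E) (s : E) (q d : ℕ) : Prop where
  cardU : Nat.card U = q
  cube : ∀ u ∈ U, u ^ 3 = 1
  commU : ∀ u ∈ U, ∀ v ∈ U, u * v = v * u
  cardT : Nat.card T = d
  commT : ∀ a ∈ T, ∀ b ∈ T, a * b = b * a
  norm : ∀ a ∈ T, ∀ u ∈ U, a * u * a⁻¹ ∈ U
  sq : s * s = 1
  inv : ∀ a ∈ T, s * a * s⁻¹ = a⁻¹
  ti : ∀ u ∈ U, s * u * s⁻¹ ∈ U → u = 1
  centU : ∀ u ∈ U, u ≠ 1 → ∀ e : E, e * u = u * e → e ∈ U
  centT : ∀ a ∈ T, a ≠ 1 → ∀ e : E, e * a = a * e → e ∈ T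
  noRev : ∀ u ∈ U, ∀ e : E, e * u * e⁻¹ = u⁻¹ → u = 1
  normT : ∀ a ∈ T, a ≠ 1 → ∀ e : E, e * a * e⁻¹ ∈ T → e ∈ T ∨ s * e ∈ T
  card : 2 * Nat.card E = q * (q - 1) * (q + 1)

variable {F : Type*} [Field F]

local notation "SL" => Matrix.SpecialLinearGroup (Fin 2) F
local notation "PSL" => Matrix.ProjectiveSpecialLinearGroup (Fin 2) F

/-- upper unitriangular matrices -/
def upper (b : F) : SL := mk2 1 b 0 1 (by ring)

/-- diagonal matrices -/
def diag (a : Fˣ) : SL := mk2 a 0 0 (a⁻¹ : Fˣ) (by simp)

/-- their images -/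
def upperHom : Multiplicative F →* PSL where
  toFun b := proj (upper b.toAdd)
  map_one' := by rw [← map_one proj]; congr 1; apply slExt <;> simp [upper, one_apply']
  map_mul' x y := by
    rw [← map_mul]; congr 1; apply slExt <;> simp [upper, mul_apply', add_comm]

/-- their images -/
def diagHom : Fˣ →* PSL where
  toFun a := proj (diag a)
  map_one' := by rw [← map_one proj]; congr 1; apply slExt <;> simp [diag, one_apply']
  map_mul' x y := by
    rw [← map_mul]; congr 1
    apply slExt <;> simp [diag, mul_apply', mul_comm]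

theorem inv00 (g : SL) : (g⁻¹ : SL).1 0 0 = g.1 1 1 := by rw [inv_apply']; rfl
theorem inv01 (g : SL) : (g⁻¹ : SL).1 0 1 = -g.1 0 1 := by rw [inv_apply']; rfl
theorem inv10 (g : SL) : (g⁻¹ : SL).1 1 0 = -g.1 1 0 := by rw [inv_apply']; rfl
theorem inv11 (g : SL) : (g⁻¹ : SL).1 1 1 = g.1 0 0 := by rw [inv_apply']; rfl

theorem upperHom_injective : Function.Injective (upperHom : Multiplicative F →* PSL) := by
  rw [injective_iff_map_eq_one]
  intro b hb
  apply Multiplicative.toAdd.injective
  rcases proj_eq_one_iff.1 (show proj (upper b.toAdd) = 1 from hb) with h | h <;>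
  · have := congrArg (fun g : SL => g.1 0 1) h
    simpa [upper, one_apply'] using this

theorem not_neg_one_sq [Fintype F] {d : ℕ} (hq : Fintype.card F = 2 * d + 1) (hd : d % 2 = 1) (x : F) :
    x * x ≠ -1 := fun h =>
  (FiniteField.isSquare_neg_one_iff.1 ⟨x, h.symm⟩) (by omega)

theorem ne_neg_of_odd [Fintype F] {d : ℕ} (hq : Fintype.card F = 2 * d + 1) : (2 : F) ≠ 0 :=
  two_ne_zero_of_odd (by omega)

theorem mem_upper_range {g : SL} (h10 : g.1 1 0 = 0) (h00 : g.1 0 0 = g.1 1 1) :
    proj g ∈ (upperHom : Multiplicative F →* PSL).range := by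
  have hd := det_eq g
  rw [h10, ← h00] at hd
  rcases mul_self_eq_one_iff.1 (show g.1 0 0 * g.1 0 0 = 1 by linear_combination hd) with h | h
  · exact ⟨Multiplicative.ofAdd (g.1 0 1), congrArg proj (by apply slExt <;> simp [upper, h, h10, ← h00])⟩
  · refine ⟨Multiplicative.ofAdd (-g.1 0 1), (proj_eq_iff.2 (Or.inr ?_))⟩
    apply slExt <;> simp [upper, mul_apply', h, h10, ← h00]

theorem mem_diag_range {g : SL} (h10 : g.1 1 0 = 0) (h01 : g.1 0 1 = 0) :
    proj g ∈ (diagHom : Fˣ →* PSL).range := by
  have hd := det_eq g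
  rw [h10, h01] at hd
  have h0 : g.1 0 0 ≠ 0 := fun h => by rw [h] at hd; simp at hd
  refine ⟨Units.mk0 _ h0, congrArg proj ?_⟩
  apply slExt <;> simp [diag, h10, h01]
  rw [inv_eq_of_mul_eq_one_right (show g.1 0 0 * g.1 1 1 = 1 by linear_combination hd)]

theorem card_diag_range [Fintype F] {d : ℕ} (hq : Fintype.card F = 2 * d + 1) :
    Nat.card (diagHom : Fˣ →* PSL).range = d := by
  classical
  have h2 := ne_neg_of_odd hq
  have hker : (diagHom : Fˣ →* PSL).ker = Subgroup.zpowers (-1) := by
    ext a
    rw [MonoidHom.mem_ker]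
    constructor
    · intro ha
      rcases proj_eq_one_iff.1 (show proj (diag a) = 1 from ha) with h | h <;>
        have := congrArg (fun g : SL => g.1 0 0) h <;> simp [diag, one_apply'] at this
      · subst this; exact one_mem _
      · rw [show a = -1 from Units.ext (by simpa using this)]; exact Subgroup.mem_zpowers _
    · intro ha
      obtain ⟨k, rfl⟩ := Subgroup.mem_zpowers_iff.1 ha
      rw [map_zpow, show diagHom (-1 : Fˣ) = (1 : PSL) from
        proj_eq_one_iff.2 (Or.inr (by apply slExt <;> simp [diag])), one_zpow]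
  have hord : orderOf (-1 : Fˣ) = 2 := by
    refine orderOf_eq_prime (by simp) fun h => h2 ?_
    have := congrArg Units.val h
    simp only [Units.val_neg, Units.val_one] at this
    linear_combination -this
  have h := (diagHom : Fˣ →* PSL).ker.card_eq_card_quotient_mul_card_subgroup
  rw [hker, Nat.card_zpowers, hord, Nat.card_units, Nat.card_eq_fintype_card (α := F), hq] at h
  rw [Nat.card_congr (QuotientGroup.quotientKerEquivRange (diagHom : Fˣ →* PSL)).toEquiv.symm]
  rw [← hker] at h
  omega

/-- `PSL(2,q)`, `q = 2d+1` of characteristic three with `d` odd, has the facts. -/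
theorem exists_model [Fintype F] [CharP F 3] {d : ℕ} (hq : Fintype.card F = 2 * d + 1)
    (hd : d % 2 = 1) :
    ∃ (U T : Subgroup PSL) (s : PSL), Model PSL U T s (Fintype.card F) d := by
  have h2 := ne_neg_of_odd hq
  refine ⟨upperHom.range, diagHom.range, proj (mk2 0 1 (-1) 0 (by ring)), ?_⟩
  constructor
  case cardU =>
    rw [← Nat.card_congr (MonoidHom.ofInjective (upperHom_injective (F := F))).toEquiv,
      Nat.card_eq_fintype_card, Fintype.card_multiplicative]
  case cube =>
    rintro _ ⟨b, rfl⟩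
    rw [← map_pow, show b ^ 3 = 1 from Multiplicative.toAdd.injective (by
      simp only [toAdd_pow, nsmul_eq_mul, toAdd_one]; rw [CharP.cast_eq_zero F 3, zero_mul]), map_one]
  case commU =>
    rintro _ ⟨a, rfl⟩ _ ⟨b, rfl⟩; rw [← map_mul, ← map_mul, mul_comm]
  case cardT => exact card_diag_range hq
  case commT =>
    rintro _ ⟨a, rfl⟩ _ ⟨b, rfl⟩; rw [← map_mul, ← map_mul, mul_comm]
  case norm =>
    rintro _ ⟨a, rfl⟩ _ ⟨b, rfl⟩
    rw [show diagHom a * upperHom b * (diagHom a)⁻¹ = proj (diag a * upper b.toAdd * (diag a)⁻¹) by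
      rw [map_mul, map_mul, map_inv]; rfl]
    apply mem_upper_range <;> simp [diag, upper, mul_apply', -Matrix.SpecialLinearGroup.coe_inv, inv00, inv01, inv10, inv11] <;> field_simp
  case sq =>
    rw [← map_mul]
    exact proj_eq_one_iff.2 (Or.inr (by apply slExt <;> simp [mul_apply']))
  case inv =>
    rintro _ ⟨a, rfl⟩
    rw [← map_inv (proj (F := F)), ← map_inv (diagHom (F := F))]
    show proj _ * proj (diag a) * proj _ = proj (diag a⁻¹)
    rw [← map_mul, ← map_mul]; congr 1
    apply slExt <;> simp [diag, mul_apply', -Matrix.SpecialLinearGroup.coe_inv, inv00, inv01, inv10, inv11]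
  case ti =>
    rintro _ ⟨b, rfl⟩ ⟨c, hc⟩
    rw [← map_inv (proj (F := F))] at hc
    change proj (upper c.toAdd) = proj _ * proj (upper b.toAdd) * proj _ at hc
    rw [← map_mul, ← map_mul] at hc
    have h0 : b.toAdd = 0 := by
      rcases proj_eq_iff.1 hc with h | h <;>
      · have := congrArg (fun g : SL => g.1 1 0) h
        simpa [upper, mul_apply', -Matrix.SpecialLinearGroup.coe_inv, inv00, inv01, inv10, inv11] using this
    rw [show b = 1 from Multiplicative.toAdd.injective h0, map_one]
  case centU =>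
    rintro _ ⟨b, rfl⟩ hb e he
    obtain ⟨g, rfl⟩ := proj_surjective e
    have hb' : b.toAdd ≠ 0 := fun h => hb (by
      rw [show b = 1 from Multiplicative.toAdd.injective h, map_one])
    change proj g * proj (upper b.toAdd) = proj (upper b.toAdd) * proj g at he
    rw [← map_mul, ← map_mul] at he
    rcases proj_eq_iff.1 he with h | h
    all_goals
      have e00 := congrArg (fun x : SL => x.1 0 0) h
      have e01 := congrArg (fun x : SL => x.1 0 1) h
      have e10 := congrArg (fun x : SL => x.1 1 0) h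
      simp [upper, mul_apply'] at e00 e01 e10
    · refine mem_upper_range ?_ ?_
      · rcases e00 with h | h
        · exact absurd h hb'
        · exact h
      · exact mul_right_cancel₀ hb' (by linear_combination -e01)
    · exfalso
      have h10 : g.1 1 0 = 0 := mul_left_cancel₀ h2 (by linear_combination e10)
      have h00 : g.1 0 0 = 0 := mul_left_cancel₀ h2 (by rw [h10] at e00; linear_combination e00)
      have hd := det_eq g
      rw [h10, h00] at hd; simp at hd
  case centT =>
    rintro _ ⟨a, rfl⟩ ha e he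
    obtain ⟨g, rfl⟩ := proj_surjective e
    have ha2 : (a : F) * a ≠ 1 := fun h => ha (by
      rcases mul_self_eq_one_iff.1 h with h1 | h1
      · rw [show a = 1 from Units.ext (by simpa using h1), map_one]
      · exact proj_eq_one_iff.2 (Or.inr (by apply slExt <;> simp [diag, h1])))
    change proj g * proj (diag a) = proj (diag a) * proj g at he
    rw [← map_mul, ← map_mul] at he
    have hai : (a : F) * ((a⁻¹ : Fˣ) : F) = 1 := by simp
    rcases proj_eq_iff.1 he with h | h
    all_goals
      have e00 := congrArg (fun x : SL => x.1 0 0) h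
      have e01 := congrArg (fun x : SL => x.1 0 1) h
      have e10 := congrArg (fun x : SL => x.1 1 0) h
      simp only [diag, mul_apply', mk2_00, mk2_01, mk2_10, mk2_11, negOne_00, negOne_01, negOne_10,
        negOne_11, mul_zero, zero_mul, add_zero, zero_add] at e00 e01 e10
    · refine mem_diag_range ?_ ?_
      · refine (mul_eq_zero.1 (show g.1 1 0 * ((a : F) * a - 1) = 0 from ?_)).resolve_right
          (sub_ne_zero.2 ha2)
        linear_combination -(a : F) * e10 + g.1 1 0 * hai
      · refine (mul_eq_zero.1 (show g.1 0 1 * ((a : F) * a - 1) = 0 from ?_)).resolve_right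
          (sub_ne_zero.2 ha2)
        linear_combination (a : F) * e01 + g.1 0 1 * hai
    · exfalso
      have h00 : g.1 0 0 = 0 := by
        refine (mul_eq_zero.1 (show g.1 0 0 * (2 * (a : F)) = 0 from ?_)).resolve_right
          (mul_ne_zero h2 a.ne_zero)
        linear_combination e00
      have hd := det_eq g
      rw [h00] at hd
      have h01 : g.1 0 1 ≠ 0 := fun h => by rw [h] at hd; simp at hd
      refine not_neg_one_sq hq ‹d % 2 = 1› a (mul_right_cancel₀ h01 ?_)
      linear_combination (a : F) * e01 - g.1 0 1 * hai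
  case noRev =>
    rintro _ ⟨b, rfl⟩ e he
    obtain ⟨g, rfl⟩ := proj_surjective e
    rw [← map_inv (proj (F := F)), ← map_inv (upperHom (F := F))] at he
    change proj g * proj (upper b.toAdd) * proj g⁻¹ = proj (upper (b⁻¹).toAdd) at he
    rw [← map_mul, ← map_mul] at he
    rcases proj_eq_iff.1 he with h | h
    · have h' : upper (b⁻¹).toAdd * g = g * upper b.toAdd := by rw [h]; group
      have e00 := congrArg (fun x : SL => x.1 0 0) h'
      have e01 := congrArg (fun x : SL => x.1 0 1) h'
      simp [upper, mul_apply'] at e00 e01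
      by_contra hb
      have hb' : b.toAdd ≠ 0 := fun h => hb (by
        rw [show b = 1 from Multiplicative.toAdd.injective h, map_one])
      have h10 : g.1 1 0 = 0 := e00.resolve_left hb'
      have h11 : g.1 1 1 = -g.1 0 0 := mul_right_cancel₀ hb' (by linear_combination -e01)
      have hd' := det_eq g
      rw [h10, h11] at hd'
      exact not_neg_one_sq hq hd (g.1 0 0) (by linear_combination -hd')
    · exfalso
      have := congrArg slTr h
      rw [slTr_mul_negOne, slTr_conj] at this
      simp [slTr, upper] at this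
      exact h2 (mul_left_cancel₀ h2 (by linear_combination this))
  case normT =>
    rintro _ ⟨a, rfl⟩ ha e ⟨b, hb⟩
    obtain ⟨g, rfl⟩ := proj_surjective e
    have ha2 : (a : F) * a ≠ 1 := fun h => ha (by
      rcases mul_self_eq_one_iff.1 h with h1 | h1
      · rw [show a = 1 from Units.ext (by simpa using h1), map_one]
      · exact proj_eq_one_iff.2 (Or.inr (by apply slExt <;> simp [diag, h1])))
    have hb' : proj (diag b) * proj g = proj g * proj (diag a) := by
      show diagHom b * proj g = proj g * diagHom a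
      rw [hb]; group
    rw [← map_mul, ← map_mul] at hb'
    have hai : (a : F) * ((a⁻¹ : Fˣ) : F) = 1 := by simp
    have hbi : (b : F) * ((b⁻¹ : Fˣ) : F) = 1 := by simp
    have key : g.1 0 0 * g.1 0 1 * ((a : F) * a - 1) = 0 ∧ g.1 0 0 * g.1 1 0 * ((a : F) * a - 1) = 0 ∧
        g.1 0 1 * g.1 1 1 * ((a : F) * a - 1) = 0 := by
      rcases proj_eq_iff.1 hb' with h | h
      all_goals
        have e00 := congrArg (fun x : SL => x.1 0 0) h
        have e01 := congrArg (fun x : SL => x.1 0 1) h
        have e10 := congrArg (fun x : SL => x.1 1 0) h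
        have e11 := congrArg (fun x : SL => x.1 1 1) h
        simp only [diag, mul_apply', mk2_00, mk2_01, mk2_10, mk2_11, negOne_00, negOne_01, negOne_10,
          negOne_11, mul_zero, zero_mul, add_zero, zero_add] at e00 e01 e10 e11
      · refine ⟨?_, ?_, ?_⟩
        · linear_combination -(a : F) * g.1 0 0 * e01 + (a : F) * g.1 0 1 * e00 + g.1 0 0 * g.1 0 1 * hai
        · linear_combination ((b⁻¹ : Fˣ) : F) * g.1 1 0 * e00 + g.1 0 0 * (a : F) * e10 +
            g.1 0 0 * g.1 1 0 * hbi
        · linear_combination -(a : F) * a * ((b⁻¹ : Fˣ) : F) * g.1 1 1 * e01 -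
            (a : F) * a * g.1 0 1 * ((a⁻¹ : Fˣ) : F) * e11 - (a : F) * a * g.1 0 1 * g.1 1 1 * hbi +
            g.1 0 1 * g.1 1 1 * ((a : F) * ((a⁻¹ : Fˣ) : F) + 1) * hai
      · refine ⟨?_, ?_, ?_⟩
        · linear_combination -(a : F) * g.1 0 0 * e01 + (a : F) * g.1 0 1 * e00 + g.1 0 0 * g.1 0 1 * hai
        · linear_combination -((b⁻¹ : Fˣ) : F) * g.1 1 0 * e00 + g.1 0 0 * (a : F) * e10 +
            g.1 0 0 * g.1 1 0 * hbi
        · linear_combination (a : F) * a * ((b⁻¹ : Fˣ) : F) * g.1 1 1 * e01 -
            (a : F) * a * g.1 0 1 * ((a⁻¹ : Fˣ) : F) * e11 - (a : F) * a * g.1 0 1 * g.1 1 1 * hbi +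
            g.1 0 1 * g.1 1 1 * ((a : F) * ((a⁻¹ : Fˣ) : F) + 1) * hai
    have hdet := det_eq g
    by_cases h0 : g.1 0 0 = 0
    · refine Or.inr ?_
      rw [← map_mul]
      have h01 : g.1 0 1 ≠ 0 := fun h' => by rw [h0, h'] at hdet; simp at hdet
      have h11 : g.1 1 1 = 0 :=
        (mul_eq_zero.1 ((mul_eq_zero.1 key.2.2).resolve_right (sub_ne_zero.2 ha2))).resolve_left h01
      refine mem_diag_range ?_ ?_ <;> simp [mul_apply', h0, h11]
    · exact Or.inl (mem_diag_range
        ((mul_eq_zero.1 ((mul_eq_zero.1 key.2.1).resolve_right (sub_ne_zero.2 ha2))).resolve_left h0)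
        ((mul_eq_zero.1 ((mul_eq_zero.1 key.1).resolve_right (sub_ne_zero.2 ha2))).resolve_left h0))
  case card => exact Linear.two_mul_card_PSL_two_of_odd ⟨d, hq⟩

end Cfsg.Agent.Lib.AllAbelian80
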