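import Cfsg.Agent.Lib.AllAbelian80.Basic
import Cfsg.Agent.Lib.AllAbelian80.Ree.Model

/-!
# Ree order: the setting

`G` has order `q³(q³+1)(q-1)`, one class of involutions, and `C(t) = ⟨t⟩ × E` with the facts `Model` for
`(E, U, T, s)`.

Owner: helper80.
-/

set_option autoImplicit false
set_option linter.unusedSectionVars false
set_option linter.style.haveILetI false

namespace Cfsg.Agent.Lib.AllAbelian80.Ree

open Subgroup

/-- The setting. -/
structure Hyp (G : Type*) [Group G] (q d : ℕ) (t s : G) (E U T : Subgroup G) : Prop where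
  pow3 : ∃ f, q = 3 ^ f
  q_eq : q = 2 * d + 1
  d_odd : d % 2 = 1
  d_big : 2 ≤ d
  card : Nat.card G = q ^ 3 * (q ^ 3 + 1) * (q - 1)
  sylow2 : ∀ Q : Sylow 2 G, IsMulCommutative (Q : Subgroup G)
  conj : ∀ a : G, orderOf a = 2 → IsConj t a
  ht : orderOf t = 2
  tE : t ∉ E
  comm : ∀ e ∈ E, e * t = t * e
  cent : ∀ g : G, g * t = t * g → g ∈ E ∨ t * g ∈ E
  UE : U ≤ E
  TE : T ≤ E
  sE : s ∈ E
  cardE : 2 * Nat.card E = q * (q - 1) * (q + 1)
  cardU : Nat.card U = q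
  cube : ∀ u ∈ U, u ^ 3 = 1
  commU : ∀ u ∈ U, ∀ v ∈ U, u * v = v * u
  cardT : Nat.card T = d
  commT : ∀ a ∈ T, ∀ b ∈ T, a * b = b * a
  norm : ∀ a ∈ T, ∀ u ∈ U, a * u * a⁻¹ ∈ U
  sq : s * s = 1
  inv : ∀ a ∈ T, s * a * s⁻¹ = a⁻¹
  ti : ∀ u ∈ U, s * u * s⁻¹ ∈ U → u = 1
  centU : ∀ u ∈ U, u ≠ 1 → ∀ e ∈ E, e * u = u * e → e ∈ U
  centT : ∀ a ∈ T, a ≠ 1 → ∀ e ∈ E, e * a = a * e → e ∈ T
  noRev : ∀ u ∈ U, ∀ e ∈ E, e * u * e⁻¹ = u⁻¹ → u = 1
  normT : ∀ a ∈ T, a ≠ 1 → ∀ e ∈ E, e * a * e⁻¹ ∈ T → e ∈ T ∨ s * e ∈ T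

namespace Hyp

variable {G : Type*} [Group G] [Finite G] {q d : ℕ} {t s : G} {E U T : Subgroup G}
  (h : Hyp G q d t s E U T)
include h

theorem tt : t * t = 1 := by rw [← pow_two, ← h.ht, pow_orderOf_eq_one]

theorem t_inv : t⁻¹ = t := inv_eq_of_mul_eq_one_right h.tt

theorem q_pos : 0 < q := by have := h.q_eq; omega

theorem cardE' : Nat.card E = q * (d * (q + 1)) := by
  have := h.cardE
  rw [show q - 1 = 2 * d by have := h.q_eq; omega] at this
  nlinarith [this]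

theorem card' : Nat.card G = q ^ 3 * (2 * d * (q ^ 3 + 1)) := by
  rw [h.card, show q - 1 = 2 * d by have := h.q_eq; omega]; ring

theorem three_not_dvd : ¬ 3 ∣ d ∧ ¬ 3 ∣ q + 1 ∧ ¬ 3 ∣ q ^ 3 + 1 ∧ 3 ∣ q := by
  obtain ⟨f, hf⟩ := h.pow3
  have := h.q_eq; have := h.d_big
  rcases f with _ | f
  · rw [pow_zero] at hf; omega
  have h3 : 3 ∣ q := hf ▸ dvd_pow_self 3 (Nat.succ_ne_zero f)
  have h3' : 3 ∣ q ^ 3 := h3.trans (dvd_pow_self q three_ne_zero)
  exact ⟨by omega, by omega, by omega, h3⟩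

theorem coprime_d : Nat.Coprime d (2 * q ^ 3 * (q ^ 3 + 1)) := by
  have hq := h.q_eq
  have h1 : Nat.Coprime d q := by
    rw [hq, Nat.coprime_mul_right_add_right]; exact Nat.coprime_one_right d
  have h2 : Nat.Coprime d 2 := Nat.coprime_two_right.2 (Nat.odd_iff.2 h.d_odd)
  have h3 : Nat.Coprime d (q ^ 3 + 1) := by
    rw [hq, show (2 * d + 1) ^ 3 + 1 = (8 * d ^ 2 + 12 * d + 6) * d + 2 by ring,
      Nat.coprime_mul_right_add_right]
    exact h2
  exact (h2.mul_right (h1.pow_right 3)).mul_right h3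

theorem isPGroup_U : IsPGroup 3 U := by
  obtain ⟨f, hf⟩ := h.pow3
  exact IsPGroup.of_card (n := f) (h.cardU.trans hf)

theorem exists_U_ne : ∃ u ∈ U, u ≠ 1 := by
  by_contra hh
  push Not at hh
  have : U = ⊥ := (eq_bot_iff_forall U).2 hh
  have hc := h.cardU
  rw [this, card_bot] at hc
  have := h.q_eq; have := h.d_big; omega

theorem exists_T_ne : ∃ a ∈ T, a ≠ 1 := by
  by_contra hh
  push Not at hh
  have : T = ⊥ := (eq_bot_iff_forall T).2 hh
  have hc := h.cardT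
  rw [this, card_bot] at hc
  have := h.d_big; omega

theorem odd_orderOf_T {a : G} (ha : a ∈ T) : Odd (orderOf a) :=
  (Nat.odd_iff.2 h.d_odd).of_dvd_nat (h.cardT ▸ Subgroup.orderOf_dvd_natCard T ha)

theorem T_inv_ne {a : G} (ha : a ∈ T) (h1 : a ≠ 1) : a⁻¹ ≠ a := fun hh => by
  have h2 : orderOf a ∣ 2 := orderOf_dvd_of_pow_eq_one (by
    rw [pow_two]; nth_rw 1 [← hh]; exact inv_mul_cancel a)
  obtain ⟨k, hk⟩ := h.odd_orderOf_T ha
  rcases (Nat.dvd_prime Nat.prime_two).1 h2 with h' | h'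
  · exact h1 (orderOf_eq_one_iff.1 h')
  · omega

theorem s_ne_one : s ≠ 1 := fun hs => by
  obtain ⟨a, ha, h1⟩ := h.exists_T_ne
  refine h.T_inv_ne ha h1 ?_
  have := h.inv a ha
  rw [hs, one_mul, inv_one, mul_one] at this
  exact this.symm

theorem ts : t * s = s * t := (h.comm s h.sE).symm

theorem ord_s : orderOf s = 2 := orderOf_eq_prime (by rw [pow_two]; exact h.sq) h.s_ne_one

theorem ord_ts : orderOf (t * s) = 2 := by
  refine orderOf_eq_prime ?_ fun hh => h.tE ?_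
  · rw [pow_two, show t * s * (t * s) = (t * t) * (s * s) by
      rw [mul_assoc, ← mul_assoc s t s, ← h.ts]; group, h.tt, h.sq, one_mul]
  · rw [eq_inv_of_mul_eq_one_left hh]; exact inv_mem h.sE

/-- An element of odd order commuting with `t` lies in `E`. -/
theorem mem_E_of_odd {g : G} (hg : g * t = t * g) (ho : Odd (orderOf g)) : g ∈ E := by
  rcases h.cent g hg with he | he
  · exact he
  exfalso
  obtain ⟨k, hk⟩ := ho
  have hp : (t * g) ^ (2 * k + 1) ∈ E := pow_mem he _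
  rw [(show Commute t g from hg.symm).mul_pow, pow_succ, pow_mul, pow_two, h.tt, one_pow, one_mul,
    ← hk, pow_orderOf_eq_one, mul_one] at hp
  exact h.tE hp

/-- No element of order three of `E` is inverted in `E`. -/
theorem noRev_E {x e : G} (hx : x ∈ E) (he : e ∈ E) (h3 : x ^ 3 = 1) (hr : e * x * e⁻¹ = x⁻¹) :
    x = 1 := by
  haveI : Fact (Nat.Prime 3) := ⟨Nat.prime_three⟩
  obtain ⟨f, hf⟩ := h.pow3
  obtain ⟨h3d, h3q, -, -⟩ := h.three_not_dvd
  have hc : Nat.card (U.subgroupOf E) = 3 ^ (Nat.card E).factorization 3 := by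
    rw [Nat.card_congr (subgroupOfEquivOfLe h.UE).toEquiv, h.cardU, h.cardE', hf]
    rw [Nat.factorization_mul (pow_ne_zero _ three_ne_zero)
      (Nat.mul_ne_zero (by have := h.d_big; omega) (Nat.succ_ne_zero _)), Finsupp.add_apply,
      Nat.prime_three.factorization_pow, Finsupp.single_eq_same,
      Nat.factorization_eq_zero_of_not_dvd (Nat.prime_three.not_dvd_mul h3d (hf ▸ h3q)), add_zero]
  let P : Sylow 3 E := Sylow.ofCard (U.subgroupOf E) hc
  have hz : IsPGroup 3 ↥(zpowers (⟨x, hx⟩ : E)) := by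
    refine IsPGroup.of_card (n := (orderOf (⟨x, hx⟩ : E)).factorization 3) ?_
    rw [Nat.card_zpowers]
    rcases (Nat.dvd_prime Nat.prime_three).1 (orderOf_dvd_of_pow_eq_one
      (show (⟨x, hx⟩ : E) ^ 3 = 1 from Subtype.ext h3)) with h1 | h1 <;> rw [h1]
    · simp
    · rw [Nat.prime_three.factorization_self]; norm_num
  obtain ⟨Q, hQ⟩ := hz.exists_le_sylow
  obtain ⟨c, hc'⟩ := MulAction.exists_smul_eq E Q P
  have hu : (c : G) * x * (c : G)⁻¹ ∈ U := by
    have hm : (MulAut.conj c) • (⟨x, hx⟩ : E) ∈ (c • Q : Sylow 3 E) := by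
      rw [Sylow.smul_def]
      exact Subgroup.smul_mem_pointwise_smul _ _ _ (hQ (mem_zpowers _))
    rw [hc'] at hm
    exact mem_subgroupOf.1 hm
  have h1 := h.noRev _ hu ((c : G) * e * (c : G)⁻¹) (mul_mem (mul_mem c.2 he) (inv_mem c.2)) (by
    calc (c : G) * e * (c : G)⁻¹ * ((c : G) * x * (c : G)⁻¹) * ((c : G) * e * (c : G)⁻¹)⁻¹
        = (c : G) * (e * x * e⁻¹) * (c : G)⁻¹ := by group
      _ = _ := by rw [hr]; group)
  exact conj_eq_one_iff.1 h1

/-- No element of order three commuting with an involution is inverted in its centraliser. -/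
theorem noRev_cent {a x e : G} (ha : orderOf a = 2) (hxa : x * a = a * x) (hea : e * a = a * e)
    (h3 : x ^ 3 = 1) (hr : e * x * e⁻¹ = x⁻¹) : x = 1 := by
  obtain ⟨c, hc⟩ := isConj_iff.1 (h.conj a ha).symm
  have hm : ∀ g : G, g * a = a * g → (c * g * c⁻¹) * t = t * (c * g * c⁻¹) := by
    intro g hg
    have := (show Commute g a from hg).map (MulAut.conj c).toMonoidHom
    simpa [hc] using this.eq
  have h3' : (c * x * c⁻¹) ^ 3 = 1 := by rw [conj_pow, h3, mul_one, mul_inv_cancel]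
  have hxE : c * x * c⁻¹ ∈ E := h.mem_E_of_odd (hm x hxa)
    ((show Odd 3 by decide).of_dvd_nat (orderOf_dvd_of_pow_eq_one h3'))
  have hr' : (c * e * c⁻¹) * (c * x * c⁻¹) * (c * e * c⁻¹)⁻¹ = (c * x * c⁻¹)⁻¹ := by
    calc _ = c * (e * x * e⁻¹) * c⁻¹ := by group
      _ = _ := by rw [hr]; group
  suffices c * x * c⁻¹ = 1 from conj_eq_one_iff.1 this
  rcases h.cent _ (hm e hea) with he | he
  · exact h.noRev_E hxE he h3' hr'
  · refine h.noRev_E hxE he h3' ?_
    calc t * (c * e * c⁻¹) * (c * x * c⁻¹) * (t * (c * e * c⁻¹))⁻¹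
        = t * ((c * e * c⁻¹) * (c * x * c⁻¹) * (c * e * c⁻¹)⁻¹) * t⁻¹ := by group
      _ = _ := by
          rw [hr', ← h.comm _ (inv_mem hxE), mul_inv_cancel_right]

/-- A `3`-subgroup normalised by `t` and `s` on which `t` has no fixed point is trivial. -/
theorem eq_bot_of_four {R : Subgroup G} (hR : IsPGroup 3 R)
    (htR : ∀ x ∈ R, t * x * t⁻¹ ∈ R) (hsR : ∀ x ∈ R, s * x * s⁻¹ ∈ R)
    (hfix : ∀ x ∈ R, t * x * t⁻¹ = x → x = 1) : R = ⊥ := by
  haveI : Fact (Nat.Prime 3) := ⟨Nat.prime_three⟩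
  obtain ⟨n, hn⟩ := IsPGroup.iff_card.1 hR
  have hodd : Odd (Nat.card R) := hn ▸ (show Odd 3 by decide).pow
  have key : ∀ a : G, orderOf a = 2 → t * a = a * t → ∀ x ∈ R, a * x * a⁻¹ = x → x = 1 := by
    intro a ha hta x hx hax
    by_contra hx1
    obtain ⟨k, hk⟩ := (Nat.dvd_prime_pow Nat.prime_three).1
      ((Subgroup.orderOf_dvd_natCard R hx).trans hn.dvd)
    obtain ⟨-, hk⟩ := hk
    rcases k with _ | k
    · rw [pow_zero, orderOf_eq_one_iff] at hk; exact hx1 hk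
    have hy : x ^ 3 ^ k ≠ 1 := fun he => by
      have := orderOf_dvd_of_pow_eq_one he
      rw [hk, Nat.pow_dvd_pow_iff_le_right (by norm_num)] at this
      omega
    have hyR : x ^ 3 ^ k ∈ R := pow_mem hx _
    refine hy (h.noRev_cent ha (((show Commute x a from (mul_inv_eq_iff_eq_mul.1 hax).symm)).pow_left _).eq
      hta (by rw [← pow_mul, ← pow_succ, ← hk, pow_orderOf_eq_one]) ?_)
    exact inverts_of_fpf hodd h.tt htR hfix hyR
  refine eq_bot_iff.2 (RankOne.Involution.le_of_four_group (M := ⊥) hodd h.tt h.sq h.ts htR hsR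
    (fun x hx hh => mem_bot.2 (hfix x hx hh))
    (fun x hx hh => mem_bot.2 (key s h.ord_s h.ts x hx hh))
    (fun x hx hh => mem_bot.2 (key (t * s) h.ord_ts ?_ x hx hh)))
  calc t * (t * s) = t * (s * t) := by rw [h.ts]
    _ = t * s * t := by group

end Hyp

end Cfsg.Agent.Lib.AllAbelian80.Ree
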