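import Cfsg.Agent.Lib.AllAbelian80.Ree.Character

/-!
# Ree order with abelian Sylow 3-subgroups: the sign character of `N` induced to `G`

Owner: helper80.
-/

set_option autoImplicit false
set_option linter.unusedSectionVars false
set_option linter.style.haveILetI false

namespace Cfsg.Agent.Lib.AllAbelian80.Ree

open Subgroup Cfsg.Agent.Lib.Characters.Basic Cfsg.Agent.Lib.Characters.Linear
open scoped ComplexConjugate

variable {G : Type*} [Group G]

/-- Inner products from Fourier coefficients. -/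
theorem classInner_eq_sum [Fintype G] [Fintype (Cfsg.IrrCharacter G)] {f : G → ℂ}
    (hf : Cfsg.IsClassFunction G f) (g : G → ℂ) :
    Cfsg.classInner f g = ∑ χ : Cfsg.IrrCharacter G,
      Cfsg.classInner f χ * conj (Cfsg.classInner g χ) := by
  conv_lhs => rw [Cfsg.Agent.Lib.Characters.Complete.classFunction_eq_sum hf]
  rw [classInner_sum_left]
  refine Finset.sum_congr rfl fun χ _ => ?_
  rw [Induced.Basic.classInner_smul_left, Induced.Basic.classInner_conj_symm]

namespace BN

variable [Fintype G] {q d : ℕ} {t s : G} {T P N M : Subgroup G} (b : BN G q d t s T P N M)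
include b

open scoped Classical in
/-- The sign character of `N` with kernel `M`. -/
noncomputable def sgn : N →* ℂˣ :=
  MonoidHom.mk' (fun g : N => if (g : G) ∈ M then 1 else -1) fun x y => by
    have hn : ∀ m ∈ M, t * m * t⁻¹ ∈ M := fun m hm => by
      have hmN : t * m * t⁻¹ ∈ N := mul_mem (mul_mem b.tN (b.MN hm)) (inv_mem b.tN)
      rw [b.odd_iff _ hmN]
      have h1 := (b.odd_iff _ (b.MN hm)).1 hm
      rwa [← orderOf_injective (MulAut.conj t).toMonoidHom (MulEquiv.injective _) m] at h1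
    have ht : t⁻¹ = t := inv_eq_of_mul_eq_one_right b.tsq
    have key : ((x * y : N) : G) ∈ M ↔ ((x : G) ∈ M ↔ (y : G) ∈ M) := by
      rw [Subgroup.coe_mul]
      by_cases hx : (x : G) ∈ M
      · simp only [hx, true_iff, M.mul_mem_cancel_left hx]
      by_cases hy : (y : G) ∈ M
      · simp only [hx, hy, false_iff, not_true, M.mul_mem_cancel_right hy, iff_true]
      simp only [hx, hy, iff_self, iff_true]
      have h1 := (b.M_cases _ x.2).resolve_left hx
      have h2 := (b.M_cases _ y.2).resolve_left hy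
      have := mul_mem (hn _ h1) h2
      rwa [ht, show t * (t * (x : G)) * t * (t * (y : G)) = (t * t) * x * (t * t) * y by group,
        b.tsq, one_mul, mul_one] at this
    show (if ((x * y : N) : G) ∈ M then (1 : ℂˣ) else -1) = _
    by_cases hx : (x : G) ∈ M <;> by_cases hy : (y : G) ∈ M <;>
      simp only [hx, hy, iff_self, iff_true, iff_false, true_iff, false_iff, not_true, not_false_iff] at key <;>
      rw [Subgroup.coe_mul] at key <;> simp [key, hx, hy]

theorem sgn_of_mem {g : N} (hg : (g : G) ∈ M) : b.sgn g = 1 := by simp [sgn, hg]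

theorem sgn_ne_one : b.sgn ≠ 1 := fun h => by
  have := congrArg (fun φ : N →* ℂˣ => ((φ ⟨t, b.tN⟩ : ℂˣ) : ℂ)) h
  simp [sgn, b.t_notin] at this
  norm_num at this

theorem sgn_conj_eq {x y : N} (g : G) (h : g⁻¹ * (x : G) * g = y) :
    b.sgn y = b.sgn x := by
  have : ((y : G) ∈ M ↔ (x : G) ∈ M) := by
    rw [b.odd_iff _ y.2, b.odd_iff _ x.2, ← h,
      ← orderOf_injective (MulAut.conj g⁻¹).toMonoidHom (MulEquiv.injective _) (x : G)]
    simp
  by_cases hx : (x : G) ∈ M
  · rw [b.sgn_of_mem hx, b.sgn_of_mem (this.2 hx)]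
  · have hy : (y : G) ∉ M := fun hh => hx (this.1 hh)
    simp [sgn, hx, hy]

/-- The induced sign character. -/
noncomputable def lam : G → ℂ := Cfsg.indFun N fun g => ((b.sgn g : ℂˣ) : ℂ)

theorem exists_pow_three (h3 : ∃ f, q = 3 ^ f) {x : G} (hx : x ∈ P) : ∃ k, x ^ 3 ^ k = 1 := by
  obtain ⟨f, hf⟩ := h3
  refine ⟨f * 3, ?_⟩
  rw [pow_mul, ← hf, ← b.cardP]
  exact congrArg Subtype.val (pow_card_eq_one' (x := (⟨x, hx⟩ : P)))

open scoped Classical in
/-- `Λ` on `P ∖ 1`. -/
theorem lam_apply (h3 : ∃ f, q = 3 ^ f) {x : G} (hx : x ∈ P) (hx1 : x ≠ 1) : b.lam x = 1 := by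
  obtain ⟨k, hk⟩ := b.exists_pow_three h3 hx
  have key : ∀ g : G, Cfsg.extendByZero N (fun g => ((b.sgn g : ℂˣ) : ℂ)) (g⁻¹ * x * g) =
      if g ∈ N then 1 else 0 := by
    intro g
    split_ifs with hg
    · have hP : g⁻¹ * x * g ∈ P := by simpa using b.norm g⁻¹ (inv_mem hg) x hx
      rw [Induced.Basic.extendByZero_of_mem _ _ (b.PN hP),
        b.sgn_of_mem (g := ⟨_, b.PN hP⟩) (b.PM hP), Units.val_one]
    · refine Induced.Basic.extendByZero_of_not_mem _ _ fun hN => hx1 (b.ti g hg x hx ?_)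
      refine b.unique _ hN k ?_
      have := conj_pow (a := g⁻¹) (b := x) (i := 3 ^ k)
      rw [inv_inv] at this
      rw [this, hk, mul_one, inv_mul_cancel]
  rw [lam, Cfsg.indFun, Finset.sum_congr rfl fun g _ => key g, Finset.sum_boole]
  rw [Nat.card_eq_fintype_card, Fintype.card_subtype]
  exact inv_mul_cancel₀ (Nat.cast_ne_zero.2 (Finset.card_ne_zero.2 ⟨1, by simp⟩))

theorem lam_one : b.lam 1 = (q : ℂ) ^ 3 + 1 := by
  rw [lam, Induced.Basic.indFun_one, map_one, Units.val_one, mul_one, b.index]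
  push_cast; rfl

/-- `(Ind ψ, Λ) = 1`. -/
theorem inner_ind_lam (h3 : ∃ f, q = 3 ^ f) {ψ : P →* ℂˣ} (hψ : ψ ≠ 1) :
    Cfsg.classInner (Cfsg.indFun P fun x => ((ψ x : ℂˣ) : ℂ)) b.lam = 1 := by
  classical
  rw [Induced.Basic.frobenius_reciprocity (χ := b.lam) _ _ (Induced.Basic.isClassFunction_indFun _ _),
    Cfsg.classInner]
  have key : ∀ x : P, ((ψ x : ℂˣ) : ℂ) * conj (b.lam x) =
      ((ψ x : ℂˣ) : ℂ) + if x = 1 then (q : ℂ) ^ 3 else 0 := by
    intro x
    split_ifs with hx
    · subst hx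
      rw [OneMemClass.coe_one, b.lam_one, map_one]
      simp [add_comm]
    · rw [b.lam_apply h3 x.2 (fun hh => hx (Subtype.ext hh)), map_one, mul_one, add_zero]
  rw [Finset.sum_congr rfl fun x _ => key x, Finset.sum_add_distrib, sum_hom hψ, zero_add,
    Finset.sum_ite_eq' Finset.univ (1 : P), if_pos (Finset.mem_univ _), b.cardP, Nat.cast_pow]
  have hq : (q : ℂ) ^ 3 ≠ 0 := by
    rw [← Nat.cast_pow, ← b.cardP]; exact Nat.cast_ne_zero.2 Nat.card_pos.ne'
  exact inv_mul_cancel₀ hq

/-- `(Λ, Λ) = 2`. -/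
theorem inner_lam_self : Cfsg.classInner b.lam b.lam = 2 := by
  classical
  have hπ := Induced.Basic.card_fixedBy_eq_indFun (G := G) (G ⧸ N) ((1 : G) : G ⧸ N)
  rw [MulAction.stabilizer_quotient] at hπ
  have hlam : ∀ x : N, b.lam x = ((b.sgn x : ℂˣ) : ℂ) * (Nat.card (MulAction.fixedBy (G ⧸ N) (x : G)) : ℂ) := by
    intro x
    rw [congrFun hπ (x : G), lam, Cfsg.indFun, Cfsg.indFun, mul_left_comm ((b.sgn x : ℂˣ) : ℂ)]
    congr 1
    rw [Finset.mul_sum]
    refine Finset.sum_congr rfl fun g _ => ?_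
    by_cases hg : g⁻¹ * (x : G) * g ∈ N
    · rw [Induced.Basic.extendByZero_of_mem _ _ hg, Induced.Basic.extendByZero_of_mem _ _ hg,
        b.sgn_conj_eq (y := ⟨_, hg⟩) g rfl, mul_one]
    · rw [Induced.Basic.extendByZero_of_not_mem _ _ hg, Induced.Basic.extendByZero_of_not_mem _ _ hg,
        mul_zero]
  rw [show Cfsg.classInner b.lam b.lam = Cfsg.classInner (fun g : N => ((b.sgn g : ℂˣ) : ℂ))
      (fun g : N => b.lam g) from Induced.Basic.frobenius_reciprocity (χ := b.lam) _ _
        (Induced.Basic.isClassFunction_indFun _ _), Cfsg.classInner]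
  have hone : ∀ x : N, ((b.sgn x : ℂˣ) : ℂ) * conj ((b.sgn x : ℂˣ) : ℂ) = 1 := fun x => by
    rw [conj_units_apply, ← Units.val_mul, ← map_mul, mul_inv_cancel, map_one, Units.val_one]
  have hval : ∀ x : N, ((b.sgn x : ℂˣ) : ℂ) * conj (b.lam x) =
      ((Nat.card (MulAction.fixedBy (G ⧸ N) (x : G)) : ℕ) : ℂ) := fun x => by
    rw [hlam, map_mul, ← mul_assoc, hone, one_mul, map_natCast]
  rw [Finset.sum_congr rfl fun x _ => hval x, ← Nat.cast_sum]
  -- two orbits of `N`
  letI := Fintype.ofFinite (G ⧸ N)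
  letI : Fintype (Quotient (MulAction.orbitRel N (G ⧸ N))) := Fintype.ofFinite _
  have hB := MulAction.sum_card_fixedBy_eq_card_orbits_mul_card_group N (G ⧸ N)
  have horb : Fintype.card (Quotient (MulAction.orbitRel N (G ⧸ N))) = 2 := by
    rw [← Fintype.card_bool]
    refine (Fintype.card_congr (Equiv.ofBijective
      (fun c : Bool => (⟦if c then ((1 : G) : G ⧸ N) else ((s : G) : G ⧸ N)⟧ :
        Quotient (MulAction.orbitRel N (G ⧸ N)))) ⟨?_, ?_⟩)).symm
    · have hne : ¬ (MulAction.orbitRel N (G ⧸ N)).r ((s : G) : G ⧸ N) ((1 : G) : G ⧸ N) := by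
        rintro ⟨g, hg⟩
        change ((g : G) • ((1 : G) : G ⧸ N)) = _ at hg
        rw [MulAction.Quotient.smul_coe, smul_eq_mul, mul_one, QuotientGroup.eq] at hg
        exact b.sN ((N.mul_mem_cancel_left (inv_mem g.2)).1 hg)
      rintro (_ | _) (_ | _) hc <;> simp only [Bool.false_eq_true, if_false, if_true, Quotient.eq] at hc
      · rfl
      · exact absurd hc hne
      · exact absurd (Setoid.symm' _ hc) hne
      · rfl
    · intro o
      induction o using Quotient.inductionOn with | _ z => ?_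
      induction z using QuotientGroup.induction_on with | _ g => ?_
      by_cases hg : g ∈ N
      · refine ⟨true, congrArg (Quotient.mk _) ?_⟩
        simp only [if_true]
        rw [QuotientGroup.eq, inv_one, one_mul]
        exact hg
      · refine ⟨false, Quotient.sound ?_⟩
        simp only [Bool.false_eq_true, if_false]
        obtain ⟨p, hp, c, hc, rfl⟩ := b.cover g hg
        refine Setoid.symm' _ ⟨⟨p, b.PN hp⟩, ?_⟩
        change p • ((s : G) : G ⧸ N) = _
        rw [MulAction.Quotient.smul_coe, smul_eq_mul, QuotientGroup.eq, inv_mul_cancel_left]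
        exact hc
  rw [horb] at hB
  have hsum : ∑ x : N, Nat.card (MulAction.fixedBy (G ⧸ N) (x : G)) = 2 * Fintype.card N := by
    rw [← hB]
    refine Finset.sum_congr rfl fun x _ => ?_
    rw [← Nat.card_eq_fintype_card]
    exact Nat.card_congr (Equiv.setCongr (by ext; rfl))
  rw [hsum, Nat.card_eq_fintype_card, Nat.cast_mul, mul_left_comm,
    inv_mul_cancel₀ (Nat.cast_ne_zero.2 Fintype.card_ne_zero)]
  norm_num

end BN

end Cfsg.Agent.Lib.AllAbelian80.Ree
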