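import Cfsg.Agent.Lib.AllAbelian80.Ree.Setup

/-!
# Ree order with abelian Sylow 3-subgroups: the centraliser of a torus element and of `U`

`C(τ)` has no elements of order three for `1 ≠ τ ∈ T`; a Sylow 3-subgroup `P ⊇ U` is normalised by `T` and `t`.

Owner: helper80.
-/

set_option autoImplicit false
set_option linter.unusedSectionVars false
set_option linter.style.haveILetI false

namespace Cfsg.Agent.Lib.AllAbelian80.Ree

open Subgroup

namespace Hyp

variable {G : Type*} [Group G] [Finite G] {q d : ℕ} {t s : G} {E U T : Subgroup G}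
  (h : Hyp G q d t s E U T)
include h

/-- The group `⟨t⟩ T`. -/
theorem mem_tT {g : G} (hg : g ∈ zpowers t ⊔ T) : g ∈ T ∨ t * g ∈ T := by
  rw [← closure_eq T, zpowers_eq_closure, ← Subgroup.closure_union] at hg
  induction hg using closure_induction with
  | mem x hx =>
    rcases hx with hx | hx
    · obtain rfl : x = t := hx
      exact Or.inr (h.tt ▸ one_mem T)
    · exact Or.inl hx
  | one => exact Or.inl (one_mem T)
  | mul x y _ _ hx hy =>
    rcases hx with hx | hx <;> rcases hy with hy | hy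
    · exact Or.inl (mul_mem hx hy)
    · refine Or.inr ?_
      rw [show t * (x * y) = (t * x * t⁻¹) * (t * y) by group,
        show t * x * t⁻¹ = x by rw [← h.comm x (h.TE hx), mul_inv_cancel_right]]
      exact mul_mem hx hy
    · exact Or.inr (by rw [← mul_assoc]; exact mul_mem hx hy)
    · refine Or.inl ?_
      rw [show x * y = (t * x) * (t * y) by
        rw [← mul_assoc, h.comm _ (h.TE hx), ← mul_assoc, h.tt, one_mul]]
      exact mul_mem hx hy
  | inv x _ hx =>
    rcases hx with hx | hx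
    · exact Or.inl (inv_mem hx)
    · refine Or.inr ?_
      have : (t * x)⁻¹ = t * x⁻¹ := by
        have hc := h.comm _ (inv_mem (h.TE hx))
        rw [mul_inv_rev, h.t_inv] at hc ⊢
        calc x⁻¹ * t = (t * (x⁻¹ * t)) * t := by rw [← hc]; rw [mul_assoc, h.tt, mul_one]
          _ = t * x⁻¹ := by rw [mul_assoc, mul_assoc, h.tt, mul_one]
      exact this ▸ inv_mem hx

/-- `|⟨t⟩ T| = 2 d`. -/
theorem card_tT : Nat.card (zpowers t ⊔ T : Subgroup G) = 2 * d := by
  classical
  have ht' : t ∈ zpowers t ⊔ T := mem_sup_left (mem_zpowers t)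
  let e : Bool × T ≃ (zpowers t ⊔ T : Subgroup G) :=
    Equiv.ofBijective (fun p => if p.1 then ⟨t * p.2, mul_mem ht' (mem_sup_right p.2.2)⟩
        else ⟨p.2, mem_sup_right p.2.2⟩) ⟨by
      rintro ⟨b, x, hx⟩ ⟨b', y, hy⟩ hh
      have htT : ∀ z ∈ T, ∀ w ∈ T, t * z ≠ w := fun z hz w hw hh' => h.tE (by
        rw [eq_mul_inv_of_mul_eq hh']; exact mul_mem (h.TE hw) (inv_mem (h.TE hz)))
      cases b <;> cases b' <;> simp only [Bool.false_eq_true, if_false, if_true, Subtype.mk.injEq] at hh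
      · subst hh; rfl
      · exact absurd hh.symm (htT y hy x hx)
      · exact absurd hh (htT x hx y hy)
      · obtain rfl := mul_left_cancel hh; rfl, by
      rintro ⟨g, hg⟩
      rcases h.mem_tT hg with hg' | hg'
      · exact ⟨(false, ⟨g, hg'⟩), rfl⟩
      · refine ⟨(true, ⟨t * g, hg'⟩), Subtype.ext ?_⟩
        show t * (t * g) = g
        rw [← mul_assoc, h.tt, one_mul]⟩
  rw [← Nat.card_congr e, Nat.card_prod, h.cardT]
  simp

/-- `C(τ) ⊓ C(t)` lies in `⟨t⟩ T`. -/
theorem inf_cent_T {a g : G} (ha : a ∈ T) (h1 : a ≠ 1) (hga : g * a = a * g) (hgt : g * t = t * g) :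
    g ∈ zpowers t ⊔ T := by
  rcases h.cent g hgt with he | he
  · exact mem_sup_right (h.centT a ha h1 g he hga)
  · rw [show g = t * (t * g) by rw [← mul_assoc, h.tt, one_mul]]
    refine mul_mem (mem_sup_left (mem_zpowers t)) (mem_sup_right (h.centT a ha h1 _ he ?_))
    exact ((show Commute t a from (h.comm a (h.TE ha)).symm).mul_left hga).eq

/-- A torus element centralises no element of order three. -/
theorem three_free {a c : G} (ha : a ∈ T) (h1 : a ≠ 1) (hc : c * a = a * c) (h3 : c ^ 3 = 1) :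
    c = 1 := by
  haveI : Fact (Nat.Prime 3) := ⟨Nat.prime_three⟩
  haveI : Fact (Nat.Prime 2) := ⟨Nat.prime_two⟩
  have hta : t ∈ centralizer ({a} : Set G) := mem_centralizer_singleton_iff.2 (h.comm a (h.TE ha)).symm
  have h4 : ¬ 4 ∣ Nat.card (centralizer ({a} : Set G) ⊓ centralizer ({t} : Set G) : Subgroup G) := by
    intro h4
    have := h4.trans (card_dvd_of_le (show _ ≤ zpowers t ⊔ T from fun g hg =>
      h.inf_cent_T ha h1 (mem_centralizer_singleton_iff.1 (mem_inf.1 hg).1)
        (mem_centralizer_singleton_iff.1 (mem_inf.1 hg).2)))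
    rw [h.card_tT] at this
    have := h.d_odd
    omega
  obtain ⟨K, hKC, hKo, hK, -⟩ := exists_oddPart hta h.ht h.sylow2 h4
  have hnorm : ∀ b : G, b * a * b⁻¹ = a ∨ b * a * b⁻¹ = a⁻¹ → b ∈ normalizer (K : Set G) := by
    intro b hb
    refine mem_normalizer_iff.2 fun x => ?_
    have hx : x ∈ centralizer ({a} : Set G) ↔ b * x * b⁻¹ ∈ centralizer ({a} : Set G) := by
      simp only [mem_centralizer_singleton_iff]
      have e : b * x * b⁻¹ * (b * a * b⁻¹) = b * (x * a) * b⁻¹ := by group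
      have e' : b * a * b⁻¹ * (b * x * b⁻¹) = b * (a * x) * b⁻¹ := by group
      constructor
      · intro hh
        have hc : Commute (b * x * b⁻¹) (b * a * b⁻¹) := by
          show _ = _
          rw [e, e', hh]
        rcases hb with hb | hb <;> rw [hb] at hc
        exacts [hc.eq, (Commute.inv_right_iff.1 hc).eq]
      · intro hh
        have hc : Commute (b * x * b⁻¹) (b * a * b⁻¹) := by
          rcases hb with hb | hb <;> rw [hb]
          exacts [hh, (show Commute _ a from hh).inv_right]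
        have := hc.eq
        rw [e, e'] at this
        exact mul_left_cancel (mul_right_cancel this)
    rw [hK, hK, hx, ← orderOf_injective (MulAut.conj b).toMonoidHom (MulEquiv.injective _) x]
    rfl
  have htN : t ∈ normalizer (K : Set G) :=
    hnorm t (Or.inl (by rw [← h.comm a (h.TE ha), mul_inv_cancel_right]))
  have hsN : s ∈ normalizer (K : Set G) := hnorm s (Or.inr (h.inv a ha))
  let A : Subgroup G := closure {t, s}
  have hA4 : ∀ g ∈ A, g ^ 2 = 1 ∧ g * t = t * g ∧ g * s = s * g := by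
    intro g hg
    induction hg using closure_induction with
    | mem x hx =>
      rcases hx with rfl | rfl
      · exact ⟨by rw [pow_two]; exact h.tt, rfl, h.ts⟩
      · exact ⟨by rw [pow_two]; exact h.sq, h.ts.symm, rfl⟩
    | one => simp
    | mul x y hx hy ihx ihy =>
      have hxy : Commute x y := by
        have : x ∈ centralizer (A : Set G) := by
          show x ∈ centralizer ((closure ({t, s} : Set G) : Subgroup G) : Set G)
          rw [centralizer_closure]
          exact mem_centralizer_iff.2 (by rintro z (rfl | rfl); exacts [ihx.2.1.symm, ihx.2.2.symm])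
        exact (mem_centralizer_iff.1 this y hy).symm
      exact ⟨by rw [hxy.mul_pow, ihx.1, ihy.1, one_mul],
        ((show Commute x t from ihx.2.1).mul_left ihy.2.1).eq,
        ((show Commute x s from ihx.2.2).mul_left ihy.2.2).eq⟩
    | inv x hx ihx =>
      exact ⟨by rw [inv_pow, ihx.1, inv_one], ((show Commute x t from ihx.2.1).inv_left).eq,
        ((show Commute x s from ihx.2.2).inv_left).eq⟩
  have hA2 : IsPGroup 2 A := fun g => ⟨1, Subtype.ext (by simpa using (hA4 g g.2).1)⟩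
  obtain ⟨n, hn⟩ := IsPGroup.iff_card.1 hA2
  haveI : Group.IsNilpotent A := hA2.isNilpotent
  obtain ⟨P, hP⟩ := Coprime.exists_invariant_sylow (A := A) (K := K)
    ((closure_le _).2 (by rintro z (rfl | rfl); exacts [htN, hsN]))
    (by rw [hn]; exact Nat.Coprime.pow_left n (Nat.coprime_two_left.2 hKo))
    (Or.inl inferInstance) 3
  set R : Subgroup G := (P : Subgroup K).map K.subtype
  have hR : R = ⊥ := by
    refine h.eq_bot_of_four (P.2.map K.subtype)
      (fun x hx => (mem_normalizer_iff.1 (hP (subset_closure (Or.inl rfl))) x).1 hx)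
      (fun x hx => (mem_normalizer_iff.1 (hP (subset_closure (Or.inr rfl))) x).1 hx) ?_
    intro x hx hxt
    have hxK : x ∈ K := map_subtype_le _ hx
    obtain ⟨hxC, hxo⟩ := (hK x).1 hxK
    have hxE : x ∈ E := h.mem_E_of_odd (mul_inv_eq_iff_eq_mul.1 hxt).symm hxo
    have hxT := h.centT a ha h1 x hxE (mem_centralizer_singleton_iff.1 hxC)
    obtain ⟨k, hk⟩ := IsPGroup.iff_card.1 (P.2.map K.subtype)
    have hd : orderOf x ∣ Nat.gcd (3 ^ k) d := Nat.dvd_gcd
      (hk ▸ Subgroup.orderOf_dvd_natCard R hx) (h.cardT ▸ Subgroup.orderOf_dvd_natCard T hxT)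
    rw [Nat.Coprime.pow_left k ((Nat.prime_three.coprime_iff_not_dvd).2 h.three_not_dvd.1)] at hd
    exact orderOf_eq_one_iff.1 (Nat.dvd_one.1 hd)
  by_contra hc1
  have hco : orderOf c = 3 := orderOf_eq_prime h3 hc1
  have hcK : c ∈ K := (hK c).2 ⟨mem_centralizer_singleton_iff.2 hc, by rw [hco]; decide⟩
  have hdvd : 3 ∣ Nat.card K := hco ▸ Subgroup.orderOf_dvd_natCard K hcK
  refine P.not_dvd_index ?_
  rw [show (P : Subgroup K) = ⊥ from (map_eq_bot_iff_of_injective _ K.subtype_injective).1 hR,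
    index_bot]
  exact hdvd

/-- An element of order dividing a prime factor of `d` is conjugate into `T`. -/
theorem exists_conj_T {l : ℕ} (hl : l.Prime) (hld : l ∣ d) {x : G} (hx : x ^ l = 1) :
    ∃ g : G, g * x * g⁻¹ ∈ T := by
  haveI : Fact l.Prime := ⟨hl⟩
  obtain ⟨Q⟩ := (inferInstance : Nonempty (Sylow l T))
  have hpos : d ≠ 0 := by have := h.d_big; omega
  have hcop : ¬ l ∣ 2 * q ^ 3 * (q ^ 3 + 1) :=
    fun hh => hl.one_lt.ne' (Nat.eq_one_of_dvd_coprimes h.coprime_d hld hh)
  have hc : Nat.card ((Q : Subgroup T).map T.subtype) = l ^ (Nat.card G).factorization l := by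
    rw [card_map_of_injective T.subtype_injective, Q.card_eq_multiplicity, h.cardT, h.card',
      show q ^ 3 * (2 * d * (q ^ 3 + 1)) = d * (2 * q ^ 3 * (q ^ 3 + 1)) by ring,
      Nat.factorization_mul hpos (fun h0 => hcop (by rw [h0]; exact dvd_zero l)), Finsupp.add_apply,
      Nat.factorization_eq_zero_of_not_dvd hcop, add_zero]
  let S : Sylow l G := Sylow.ofCard _ hc
  have hz : IsPGroup l ↥(zpowers x) := fun y => ⟨1, by
    obtain ⟨j, hj⟩ := mem_zpowers_iff.1 y.2
    refine Subtype.ext ?_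
    rw [pow_one, SubgroupClass.coe_pow, ← hj, ← zpow_natCast, ← zpow_mul, mul_comm, zpow_mul,
      zpow_natCast, hx, one_zpow]
    rfl⟩
  obtain ⟨R, hR⟩ := hz.exists_le_sylow
  obtain ⟨g, hg⟩ := MulAction.exists_smul_eq G R S
  refine ⟨g, map_subtype_le (Q : Subgroup T) ?_⟩
  have hm : MulAut.conj g • x ∈ (g • R : Sylow l G) := by
    rw [Sylow.smul_def]
    exact Subgroup.smul_mem_pointwise_smul _ _ _ (hR (mem_zpowers _))
  rw [hg] at hm
  exact hm

/-- An element normalising a non-trivial subgroup of `T` and commuting with `t` acts on it as `± 1`. -/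
theorem act_pm {a e : G} (ha : a ∈ T) (ha1 : a ≠ 1) (he : e * t = t * e) (hea : e * a * e⁻¹ ∈ T) :
    e * a * e⁻¹ = a ∨ e * a * e⁻¹ = a⁻¹ := by
  have key : ∀ e' ∈ E, e' * a * e'⁻¹ = e * a * e⁻¹ →
      e * a * e⁻¹ = a ∨ e * a * e⁻¹ = a⁻¹ := by
    intro e' he' heq
    rcases h.normT a ha ha1 e' he' (heq ▸ hea) with h1 | h1
    · exact Or.inl (by rw [← heq, h.commT _ h1 a ha, mul_inv_cancel_right])
    · refine Or.inr ?_
      have h2 : s * e' * a * (s * e')⁻¹ = a := by rw [h.commT _ h1 a ha, mul_inv_cancel_right]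
      calc e * a * e⁻¹ = e' * a * e'⁻¹ := heq.symm
        _ = s⁻¹ * (s * e' * a * (s * e')⁻¹) * s := by group
        _ = s⁻¹ * a * s := by rw [h2]
        _ = a⁻¹ := by rw [inv_eq_of_mul_eq_one_right h.sq]; simpa [inv_eq_of_mul_eq_one_right h.sq]
            using h.inv a ha
  rcases h.cent e he with h1 | h1
  · exact key e h1 rfl
  · refine key _ h1 ?_
    calc t * e * a * (t * e)⁻¹ = t * (e * a * e⁻¹) * t⁻¹ := by group
      _ = _ := by rw [← h.comm _ (h.TE hea), mul_inv_cancel_right]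

/-- In a subgroup of odd order containing `T` the Sylow `l`-subgroup for `l ∣ d` is central in its
normaliser, so there is a normal `l`-complement. -/
theorem exists_complement {K : Subgroup G} (hKo : Odd (Nat.card K)) (hTK : T ≤ K) {l : ℕ}
    (hl : l.Prime) (hld : l ∣ d) :
    ∃ L : Subgroup G, ∀ g, g ∈ L ↔ g ∈ K ∧ ¬ l ∣ orderOf g := by
  haveI : Fact l.Prime := ⟨hl⟩
  haveI : Fact (Nat.Prime 2) := ⟨Nat.prime_two⟩
  obtain ⟨Q⟩ := (inferInstance : Nonempty (Sylow l T))
  set Tl : Subgroup G := (Q : Subgroup T).map T.subtype with hTl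
  have hTlT : Tl ≤ T := map_subtype_le _
  have hpos : d ≠ 0 := by have := h.d_big; omega
  have hcop : ¬ l ∣ 2 * q ^ 3 * (q ^ 3 + 1) :=
    fun hh => hl.one_lt.ne' (Nat.eq_one_of_dvd_coprimes h.coprime_d hld hh)
  have hcard : Nat.card Tl = l ^ d.factorization l := by
    rw [hTl, card_map_of_injective T.subtype_injective, Q.card_eq_multiplicity, h.cardT]
  have hTl1 : ∃ a ∈ Tl, a ≠ 1 := by
    by_contra hh
    push Not at hh
    rw [(eq_bot_iff_forall Tl).2 hh, card_bot] at hcard
    have := Nat.Prime.factorization_pos_of_dvd hl hpos hld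
    exact absurd hcard.symm (Nat.one_lt_pow this.ne' hl.one_lt).ne'
  have hfact : (Nat.card K).factorization l = d.factorization l := by
    refine le_antisymm ?_ ?_
    · have h1 : (Nat.card K).factorization l ≤ (Nat.card G).factorization l :=
        (Nat.factorization_le_iff_dvd Nat.card_pos.ne' Nat.card_pos.ne').2 (card_subgroup_dvd_card K) l
      rwa [h.card', show q ^ 3 * (2 * d * (q ^ 3 + 1)) = d * (2 * q ^ 3 * (q ^ 3 + 1)) by ring,
        Nat.factorization_mul hpos (fun h0 => hcop (by rw [h0]; exact dvd_zero l)), Finsupp.add_apply,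
        Nat.factorization_eq_zero_of_not_dvd hcop, add_zero] at h1
    · rw [← Nat.Prime.pow_dvd_iff_le_factorization hl Nat.card_pos.ne', ← hcard]
      exact card_dvd_of_le (hTlT.trans hTK)
  let P : Sylow l K := Sylow.ofCard (Tl.subgroupOf K) (by
    rw [Nat.card_congr (subgroupOfEquivOfLe (hTlT.trans hTK)).toEquiv, hcard, hfact])
  have hP : normalizer ((P : Subgroup K) : Set K) ≤ centralizer ((P : Subgroup K) : Set K) := by
    intro g hg
    have hgTl : ∀ x ∈ Tl, (g : G) * x * (g : G)⁻¹ ∈ Tl := fun x hx =>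
      mem_subgroupOf.1 ((mem_normalizer_iff.1 hg ⟨x, hTK (hTlT hx)⟩).1 (mem_subgroupOf.2 hx))
    set C : Subgroup G := centralizer (Tl : Set G) with hC
    have htC : t ∈ C := mem_centralizer_iff.2 fun x hx => h.comm x (h.TE (hTlT hx))
    have hgtC : (g : G) * t * (g : G)⁻¹ ∈ C := by
      refine mem_centralizer_iff.2 fun x hx => ?_
      have hx' : (g : G)⁻¹ * x * g ∈ Tl := by
        have hinv : (g⁻¹ : K) ∈ normalizer ((P : Subgroup K) : Set K) := inv_mem hg
        have := mem_subgroupOf.1 ((mem_normalizer_iff.1 hinv ⟨x, hTK (hTlT hx)⟩).1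
          (mem_subgroupOf.2 hx))
        simpa using this
      calc x * ((g : G) * t * (g : G)⁻¹) = g * ((g : G)⁻¹ * x * g * t) * (g : G)⁻¹ := by group
        _ = g * (t * ((g : G)⁻¹ * x * g)) * (g : G)⁻¹ := by rw [mem_centralizer_iff.1 htC _ hx']
        _ = _ := by group
    obtain ⟨a, haTl, ha1⟩ := hTl1
    have h4 : ¬ 4 ∣ Nat.card (C ⊓ centralizer ({t} : Set G) : Subgroup G) := by
      intro h4
      have := h4.trans (card_dvd_of_le (show _ ≤ zpowers t ⊔ T from fun x hx =>
        h.inf_cent_T (hTlT haTl) ha1 (mem_centralizer_iff.1 (mem_inf.1 hx).1 a haTl).symm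
          (mem_centralizer_singleton_iff.1 (mem_inf.1 hx).2)))
      rw [h.card_tT] at this
      have := h.d_odd
      omega
    obtain ⟨K', -, hK'o, -, hCK⟩ := exists_oddPart htC h.ht h.sylow2 h4
    have hC2 : 2 ^ (Nat.card C).factorization 2 = 2 := by
      rw [hCK, Nat.factorization_mul two_ne_zero Nat.card_pos.ne', Finsupp.add_apply,
        Nat.prime_two.factorization_self, Nat.factorization_eq_zero_of_not_dvd
          (fun hh => Nat.not_even_iff_odd.2 hK'o (even_iff_two_dvd.2 hh))]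
      norm_num
    let S₀ : Sylow 2 C := Sylow.ofCard (zpowers ⟨t, htC⟩) (by
      rw [Nat.card_zpowers, ← Subgroup.orderOf_coe, h.ht, hC2])
    have hu : orderOf ((g : G) * t * (g : G)⁻¹) = 2 := by
      rw [← MulAut.conj_apply, ← MulEquiv.coe_toMonoidHom,
        orderOf_injective _ (MulEquiv.injective _), h.ht]
    have hz : IsPGroup 2 ↥(zpowers (⟨_, hgtC⟩ : C)) :=
      IsPGroup.of_card (n := 1) (by rw [Nat.card_zpowers, ← Subgroup.orderOf_coe, hu, pow_one])
    obtain ⟨Q', hQ'⟩ := hz.exists_le_sylow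
    obtain ⟨c, hc⟩ := MulAction.exists_smul_eq C Q' S₀
    have hm : MulAut.conj c • (⟨_, hgtC⟩ : C) ∈ (c • Q' : Sylow 2 C) := by
      rw [Sylow.smul_def]
      exact Subgroup.smul_mem_pointwise_smul _ _ _ (hQ' (mem_zpowers _))
    rw [hc] at hm
    obtain ⟨j, hj⟩ := mem_zpowers_iff.1 hm
    have hj' : t ^ j = (c : G) * ((g : G) * t * (g : G)⁻¹) * (c : G)⁻¹ := by
      simpa using congrArg Subtype.val hj
    have hcg : (c : G) * g * t = t * ((c : G) * g) := by
      have : t ^ j = t := by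
        rcases Int.even_or_odd j with ⟨i, hi⟩ | ⟨i, hi⟩
        · exfalso
          have h1 : t ^ j = 1 := by rw [hi, ← two_mul, zpow_mul, zpow_two, h.tt, one_zpow]
          have h2 := conj_eq_one_iff.1 (hj'.symm.trans h1)
          rw [h2, orderOf_one] at hu
          norm_num at hu
        · rw [hi, zpow_add, zpow_mul, zpow_two, h.tt, one_zpow, one_mul, zpow_one]
      rw [this] at hj'
      nth_rw 2 [hj']
      group
    have hact : ∀ x ∈ Tl, (c : G) * g * x * ((c : G) * g)⁻¹ = g * x * (g : G)⁻¹ := fun x hx => by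
      have := mem_centralizer_iff.1 c.2 _ (hgTl x hx)
      calc (c : G) * g * x * ((c : G) * g)⁻¹ = c * (g * x * (g : G)⁻¹) * (c : G)⁻¹ := by group
        _ = _ := by rw [← this, mul_inv_cancel_right]
    have hfix : ∀ x ∈ Tl, (g : G) * x * (g : G)⁻¹ = x := by
      intro x hx
      rcases eq_or_ne x 1 with rfl | hx1
      · simp
      rcases h.act_pm (hTlT hx) hx1 hcg (by rw [hact x hx]; exact hTlT (hgTl x hx)) with h1 | h1 <;>
        rw [hact x hx] at h1
      · exact h1
      exfalso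
      have h2 : Commute ((g : G) ^ 2) x := by
        have e : (g : G) * x⁻¹ * (g : G)⁻¹ = x := by
          rw [show (g : G) * x⁻¹ * (g : G)⁻¹ = ((g : G) * x * (g : G)⁻¹)⁻¹ by group, h1, inv_inv]
        show _ = _
        calc (g : G) ^ 2 * x = (g * ((g : G) * x * (g : G)⁻¹) * (g : G)⁻¹) * (g : G) ^ 2 := by
              rw [pow_two]; group
          _ = _ := by rw [h1, e]
      obtain ⟨k, hk⟩ : Odd (orderOf (g : G)) :=
        hKo.of_dvd_nat (Subgroup.orderOf_dvd_natCard K g.2)
      have hg : (g : G) = ((g : G) ^ 2) ^ (k + 1) := by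
        rw [← pow_mul, show 2 * (k + 1) = (2 * k + 1) + 1 by ring, pow_succ, ← hk, pow_orderOf_eq_one,
          one_mul]
      rw [hg, (h2.pow_left (k + 1)).eq, mul_inv_cancel_right] at h1
      exact h.T_inv_ne (hTlT hx) hx1 h1.symm
    refine mem_centralizer_iff.2 fun x hx => Subtype.ext ?_
    show (x : G) * g = g * x
    exact (mul_inv_eq_iff_eq_mul.1 (hfix x (mem_subgroupOf.1 hx))).symm
  set L := (MonoidHom.transferSylow P hP).ker with hL
  refine ⟨L.map K.subtype, fun g => ⟨?_, fun ⟨hg, hgl⟩ => ⟨⟨g, hg⟩, ?_, rfl⟩⟩⟩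
  · rintro ⟨x, hx, rfl⟩
    refine ⟨x.2, fun hh => MonoidHom.not_dvd_card_ker_transferSylow P hP ?_⟩
    rw [K.coe_subtype, Subgroup.orderOf_coe] at hh
    exact hh.trans (Subgroup.orderOf_dvd_natCard _ hx)
  · refine MonoidHom.mem_ker.2 (orderOf_eq_one_iff.1 ?_)
    obtain ⟨i, hi⟩ := IsPGroup.iff_card.1 P.2
    have h1 : orderOf (MonoidHom.transferSylow P hP ⟨g, hg⟩) ∣ l ^ i :=
      hi ▸ _root_.orderOf_dvd_natCard _
    have h2 := (orderOf_map_dvd (MonoidHom.transferSylow P hP) ⟨g, hg⟩).trans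
      (Subgroup.orderOf_coe (⟨g, hg⟩ : K)).symm.dvd
    exact Nat.eq_one_of_dvd_coprimes ((hl.coprime_iff_not_dvd.2 hgl).pow_left i) h1 h2

/-- In a subgroup of odd order containing `T` the elements of order prime to `d` form a subgroup. -/
theorem exists_prime_to_d {K : Subgroup G} (hKo : Odd (Nat.card K)) (hTK : T ≤ K) :
    ∃ L : Subgroup G, ∀ g, g ∈ L ↔ g ∈ K ∧ (orderOf g).Coprime d := by
  choose L hL using fun l : {l : ℕ // l.Prime ∧ l ∣ d} => h.exists_complement hKo hTK l.2.1 l.2.2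
  refine ⟨K ⊓ ⨅ l, L l, fun g => ?_⟩
  rw [mem_inf, mem_iInf]
  refine and_congr_right fun hg => ⟨fun hh => Nat.coprime_of_dvd fun l hl h1 h2 =>
    ((hL ⟨l, hl, h2⟩ g).1 (hh _)).2 h1, fun hh l => (hL l g).2 ⟨hg, fun h1 =>
    l.2.1.one_lt.ne' (Nat.eq_one_of_dvd_coprimes hh h1 l.2.2)⟩⟩

/-- A Sylow 3-subgroup above `U` normalised by `t` and `T`, with `C_P(t) = U`. -/
theorem exists_sylow : ∃ P : Subgroup G, IsPGroup 3 P ∧ Nat.card P = q ^ 3 ∧ U ≤ P ∧
    zpowers t ⊔ T ≤ normalizer (P : Set G) ∧ ∀ x ∈ P, x * t = t * x → x ∈ U := by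
  haveI : Fact (Nat.Prime 3) := ⟨Nat.prime_three⟩
  haveI : Fact (Nat.Prime 2) := ⟨Nat.prime_two⟩
  obtain ⟨u, hu, hu1⟩ := h.exists_U_ne
  obtain ⟨f, hf⟩ := h.pow3
  obtain ⟨h3d, h3q, h3c, -⟩ := h.three_not_dvd
  have hq3 : 3 ^ (Nat.card G).factorization 3 = q ^ 3 := by
    rw [h.card', hf, ← pow_mul,
      Nat.factorization_mul (pow_ne_zero _ three_ne_zero) (Nat.mul_ne_zero (Nat.mul_ne_zero two_ne_zero
        (by have := h.d_big; omega)) (Nat.succ_ne_zero _)), Finsupp.add_apply,
      Nat.prime_three.factorization_pow, Finsupp.single_eq_same,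
      Nat.factorization_eq_zero_of_not_dvd (Nat.prime_three.not_dvd_mul
        (Nat.prime_three.not_dvd_mul (by norm_num) h3d) (by rw [pow_mul, ← hf]; exact h3c)), add_zero]
  -- `U` is a Sylow 3-subgroup of `E`
  have hfixU : ∀ P : Subgroup G, IsPGroup 3 P → U ≤ P → ∀ x ∈ P, x * t = t * x → x ∈ U := by
    intro P hP hUP x hx hxt
    have hxo : Odd (orderOf x) := by
      obtain ⟨n, hn⟩ := IsPGroup.iff_card.1 hP
      exact ((show Odd 3 by decide).pow (n := n)).of_dvd_nat (hn ▸ Subgroup.orderOf_dvd_natCard P hx)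
    obtain ⟨n, hn⟩ := IsPGroup.iff_card.1 (hP.to_le (inf_le_left : P ⊓ E ≤ P))
    have hd : Nat.card (P ⊓ E : Subgroup G) ∣ q := by
      have h1 : Nat.card (P ⊓ E : Subgroup G) ∣ q * (d * (q + 1)) :=
        h.cardE' ▸ card_dvd_of_le inf_le_right
      refine Nat.Coprime.dvd_of_dvd_mul_right ?_ h1
      rw [hn]
      exact (Nat.prime_three.coprime_iff_not_dvd.2 (Nat.prime_three.not_dvd_mul h3d h3q)).pow_left n
    have he : U = P ⊓ E := eq_of_le_of_card_ge (le_inf hUP h.UE)
      (h.cardU ▸ Nat.le_of_dvd h.q_pos hd)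
    rw [he]
    exact ⟨hx, h.mem_E_of_odd hxt hxo⟩
  have hTU : zpowers t ⊔ T ≤ normalizer (U : Set G) := by
    refine le_normalizer_of_conj_mem fun g hg x hx => ?_
    rcases h.mem_tT hg with hg' | hg'
    · exact h.norm g hg' x hx
    · have := h.norm _ hg' x hx
      have e : g * x * g⁻¹ = t⁻¹ * (t * g * x * (t * g)⁻¹) * t := by group
      rwa [e, h.t_inv, ← h.comm _ (h.UE this), mul_assoc, h.tt, mul_one]
  obtain ⟨P, -, hP⟩ := Finite.exists_le_maximal
    (p := fun V : Subgroup G => IsPGroup 3 V ∧ U ≤ V ∧ zpowers t ⊔ T ≤ normalizer (V : Set G))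
    (a := U) ⟨h.isPGroup_U, le_rfl, hTU⟩
  obtain ⟨⟨hP3, hUP, hPn⟩, hmax⟩ := hP
  refine ⟨P, hP3, ?_, hUP, hPn, hfixU P hP3 hUP⟩
  obtain ⟨S, hS⟩ := hP3.exists_le_sylow
  by_contra hne
  have hSP : P < (S : Subgroup G) := lt_of_le_of_ne hS fun e => hne (by
    rw [e, S.card_eq_multiplicity, hq3])
  haveI : Group.IsNilpotent (S : Subgroup G) := S.2.isNilpotent
  obtain ⟨⟨x, hxS⟩, hxN, hxP⟩ := SetLike.exists_of_lt
    (Group.normalizerCondition_of_isNilpotent (P.subgroupOf S) (lt_top_iff_ne_top.2 fun e =>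
      hSP.not_ge (subgroupOf_eq_top.1 e)))
  have hxC : x ∈ normalizer (P : Set G) := mem_normalizer_iff.2 fun y => by
    constructor
    · intro hy
      exact mem_subgroupOf.1 ((mem_normalizer_iff.1 hxN ⟨y, hS hy⟩).1 (mem_subgroupOf.2 hy))
    · intro hy
      have hy' : y ∈ (S : Subgroup G) := by
        have := mul_mem (mul_mem (inv_mem hxS) (hS hy)) hxS
        simpa [mul_assoc] using this
      exact mem_subgroupOf.1 ((mem_normalizer_iff.1 hxN ⟨y, hy'⟩).2 (mem_subgroupOf.2 hy))
  set C : Subgroup G := normalizer (P : Set G) with hC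
  have htC : t ∈ C := hPn (mem_sup_left (mem_zpowers t))
  have h4 : ¬ 4 ∣ Nat.card (C ⊓ centralizer ({t} : Set G) : Subgroup G) := by
    intro h4
    obtain ⟨W, hW⟩ := Sylow.exists_subgroup_card_pow_prime 2 (n := 2) h4
    have hW4 : Nat.card (W.map (C ⊓ centralizer ({t} : Set G)).subtype) = 4 := by
      rw [card_map_of_injective (subtype_injective _), hW]
      norm_num
    have hinv : ∀ e ∈ E, e * t = t * e → e ∈ C → e * e = 1 → e = 1 := by
      intro e he het heC hee
      by_contra he1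
      have hnU : ∀ y ∈ U, e * y * e⁻¹ ∈ U := fun y hy => hfixU P hP3 hUP _
        ((mem_normalizer_iff.1 heC y).1 (hUP hy))
        ((((show Commute e t from het).mul_left (h.comm y (h.UE hy))).mul_left
          (show Commute e t from het).inv_left).eq)
      have hUo : Odd (Nat.card U) := by rw [h.cardU, hf]; exact (show Odd 3 by decide).pow
      have hEU : e ∈ U := by
        refine h.centU u hu hu1 e he (mul_inv_eq_iff_eq_mul.1 ?_)
        obtain ⟨c, hc, i, hi, hct, hit, hcu⟩ := RankOne.Involution.exists_decomp hUo hee hnU hu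
        have hi1 : i = 1 := h.noRev i hi e he hit
        rw [hi1, mul_one] at hcu
        rw [hcu, hct]
      have hee2 : orderOf e = 2 := orderOf_eq_prime (by rw [pow_two]; exact hee) he1
      have := hee2 ▸ Subgroup.orderOf_dvd_natCard U hEU
      exact Nat.not_even_iff_odd.2 hUo (even_iff_two_dvd.2 this)
    have hall : ∀ y ∈ W.map (C ⊓ centralizer ({t} : Set G)).subtype, y = 1 ∨ y = t := by
      intro y hy
      have hy4 : y ^ 4 = 1 := by
        have := congrArg Subtype.val (pow_card_eq_one' (G := ↥(W.map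
          (C ⊓ centralizer ({t} : Set G)).subtype)) (x := ⟨y, hy⟩))
        rwa [SubgroupClass.coe_pow, hW4, OneMemClass.coe_one] at this
      obtain ⟨hyC, hyt'⟩ := mem_inf.1 (map_subtype_le _ hy)
      have hyt : Commute y t := mem_centralizer_singleton_iff.1 hyt'
      have sq1 : y ^ 2 = 1 := by
        rcases h.cent y hyt.eq with he | he
        · exact hinv _ (pow_mem he 2) (hyt.pow_left 2).eq (pow_mem hyC 2) (by
            rw [← pow_add]; exact hy4)
        · have e2 : y ^ 2 = (t * y) ^ 2 := by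
            rw [hyt.symm.mul_pow, pow_two t, h.tt, one_mul]
          exact hinv _ (e2 ▸ pow_mem he 2) (hyt.pow_left 2).eq (pow_mem hyC 2) (by
            rw [← pow_add]; exact hy4)
      rw [pow_two] at sq1
      rcases h.cent y hyt.eq with he | he
      · exact Or.inl (hinv y he hyt.eq hyC sq1)
      · refine Or.inr ?_
        have h2 : t * y * (t * y) = 1 := by
          rw [hyt.mul_mul_mul_comm, h.tt, sq1, one_mul]
        have := hinv _ he ((Commute.refl t).mul_left hyt).eq (mul_mem htC hyC) h2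
        rw [eq_inv_of_mul_eq_one_right this, h.t_inv]
    have hsub : ((W.map (C ⊓ centralizer ({t} : Set G)).subtype : Subgroup G) : Set G) ⊆ {1, t} :=
      fun y hy => (hall y hy).elim (fun e => Or.inl e) (fun e => Or.inr e)
    have h2 := Nat.card_mono (Set.toFinite _) hsub
    rw [SetLike.coe_sort_coe, hW4] at h2
    have := Set.ncard_insert_le (1 : G) {t}
    rw [Set.ncard_singleton, ← Nat.card_coe_set_eq] at this
    omega
  obtain ⟨K, -, hKo, hK, -⟩ := exists_oddPart htC h.ht h.sylow2 h4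
  have hTK : T ≤ K := fun a ha => (hK a).2 ⟨hPn (mem_sup_right ha), h.odd_orderOf_T ha⟩
  obtain ⟨L, hL⟩ := h.exists_prime_to_d hKo hTK
  have h3mem : ∀ y ∈ C, (∃ n, y ^ 3 ^ n = 1) → y ∈ L := by
    rintro y hy ⟨n, hn⟩
    have hdv := orderOf_dvd_of_pow_eq_one hn
    exact (hL y).2 ⟨(hK y).2 ⟨hy, ((show Odd 3 by decide).pow (n := n)).of_dvd_nat hdv⟩,
      (((Nat.prime_three.coprime_iff_not_dvd).2 h3d).pow_left n).coprime_dvd_left hdv⟩
  have hPL : P ≤ L := fun y hy => by
    obtain ⟨n, hn⟩ := hP3 ⟨y, hy⟩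
    exact h3mem y (le_normalizer hy) ⟨n, congrArg Subtype.val hn⟩
  have hxL : x ∈ L := by
    obtain ⟨n, hn⟩ := S.2 ⟨x, hxS⟩
    exact h3mem x hxC ⟨n, congrArg Subtype.val hn⟩
  have hTL : zpowers t ⊔ T ≤ normalizer (L : Set G) := by
    refine le_normalizer_of_conj_mem fun g hg y hy => ?_
    have hgC : g ∈ C := hPn hg
    obtain ⟨hyK, hyd⟩ := (hL y).1 hy
    obtain ⟨hyC, hyo⟩ := (hK y).1 hyK
    have ho : orderOf (g * y * g⁻¹) = orderOf y :=
      orderOf_injective (MulAut.conj g).toMonoidHom (MulEquiv.injective _) y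
    exact (hL _).2 ⟨(hK _).2 ⟨mul_mem (mul_mem hgC hyC) (inv_mem hgC), ho ▸ hyo⟩, ho ▸ hyd⟩
  have hcop : Nat.Coprime (Nat.card (zpowers t ⊔ T : Subgroup G)) (Nat.card L) := by
    rw [h.card_tT]
    refine Nat.coprime_of_dvd fun l hl hld hlL => ?_
    haveI : Fact l.Prime := ⟨hl⟩
    obtain ⟨y, hy⟩ := exists_prime_orderOf_dvd_card' l hlL
    obtain ⟨hyK, hyd⟩ := (hL y).1 y.2
    rw [Subgroup.orderOf_coe, hy] at hyd
    rcases hl.dvd_mul.1 hld with hl2 | hl2
    · obtain rfl := (Nat.prime_dvd_prime_iff_eq hl Nat.prime_two).1 hl2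
      have := ((hK y).1 hyK).2
      rw [Subgroup.orderOf_coe, hy] at this
      exact absurd this (by decide)
    · exact hl.one_lt.ne' (Nat.eq_one_of_dvd_coprimes hyd dvd_rfl hl2)
  have hsolv : Group.IsSolvable (zpowers t ⊔ T : Subgroup G) := by
    refine Group.isSolvable_of_comm fun a b => Subtype.ext ?_
    have key : ∀ x ∈ (zpowers t ⊔ T : Subgroup G), ∀ y ∈ T, Commute x y := by
      intro x hx y hy
      rcases h.mem_tT hx with hx' | hx'
      · exact h.commT x hx' y hy
      · rw [show x = t * (t * x) by rw [← mul_assoc, h.tt, one_mul]]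
        exact (show Commute t y from (h.comm y (h.TE hy)).symm).mul_left
          (show Commute (t * x) y from h.commT _ hx' y hy)
    rcases h.mem_tT b.2 with hb' | hb'
    · exact (key a a.2 b hb').eq
    · show (a : G) * b = b * a
      rw [show (b : G) = t * (t * b) by rw [← mul_assoc, h.tt, one_mul]]
      refine ((Commute.symm ?_).mul_right (key a a.2 _ hb')).eq
      rcases h.mem_tT a.2 with ha' | ha'
      · exact (h.comm a (h.TE ha')).symm
      · rw [show (a : G) = t * (t * a) by rw [← mul_assoc, h.tt, one_mul]]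
        exact (Commute.refl t).mul_right (h.comm _ (h.TE ha')).symm
  obtain ⟨R, hPR, hR⟩ := Coprime.exists_invariant_sylow_ge hTL hcop (Or.inl hsolv) 3 P hPL hP3 hPn
  have hRP : (R : Subgroup L).map L.subtype ≤ P := hmax ⟨R.2.map _, hUP.trans hPR, hR⟩ hPR
  have hx' : IsPGroup 3 (P.subgroupOf L ⊔ zpowers (⟨x, hxL⟩ : L) : Subgroup L) := by
    refine ((hP3.comap_of_injective L.subtype L.subtype_injective)).to_sup_of_normal_left' ?_ ?_
    · obtain ⟨n, hn⟩ := S.2 ⟨x, hxS⟩
      have hdv := orderOf_dvd_of_pow_eq_one (congrArg Subtype.val hn : x ^ 3 ^ n = 1)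
      obtain ⟨i, -, hi⟩ := (Nat.dvd_prime_pow Nat.prime_three).1 hdv
      exact IsPGroup.of_card (n := i) (by rw [Nat.card_zpowers, ← Subgroup.orderOf_coe, hi])
    · rw [zpowers_le]
      exact mem_normalizer_iff.2 fun y => (mem_normalizer_iff.1 hxC y)
  have hle : (R : Subgroup L) ≤ P.subgroupOf L ⊔ zpowers (⟨x, hxL⟩ : L) := fun y hy =>
    mem_sup_left (mem_subgroupOf.2 (hRP (mem_map_of_mem _ hy)))
  have heq := R.3 hx' hle
  have : (⟨x, hxL⟩ : L) ∈ (R : Subgroup L) := heq ▸ mem_sup_right (mem_zpowers _)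
  exact hxP (mem_subgroupOf.2 (hRP (mem_map_of_mem _ this)))

end Hyp

end Cfsg.Agent.Lib.AllAbelian80.Ree
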